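import Cfsg.Agent.H175.BdSp_m3
import Cfsg.Agent.SporadicStructure.M24El
import Cfsg.Prelude.Def_Spor_Mathieu
import Cfsg.Agent.Prune
set_option linter.all false
open scoped Cfsg.Agent.FastGrp

/-!
# Configurations in the Mathieu groups

`Conf r m` (see `SporBase`) for `M11`, `M12`, `M22`, `M23`, `M24`, by packed permutations.
-/

set_option autoImplicit false

universe u v w

namespace Cfsg.Agent.H921.Spor.M24

open Cfsg Cfsg.Agent.SporadicA.GolayBase Cfsg.Agent.SporadicA.GolayPerm
open Cfsg.Agent.SporadicStructure.M24El Cfsg.Agent.H921.Spor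
open scoped Pointwise

/-! ### packed powers -/

/-- packed powers -/
def ppow (P : ℕ) : ℕ → ℕ
  | 0 => idP
  | n + 1 => pcomp P (ppow P n)

theorem ok_ppow {P : ℕ} (h : ok P = true) (n : ℕ) : ok (ppow P n) = true := by
  induction n with
  | zero => exact ok_idP
  | succ n ih => exact ok_pcomp h ih

theorem el_ppow {P : ℕ} (h : ok P = true) (n : ℕ) : el (ppow P n) = el P ^ n := by
  induction n with
  | zero => rw [pow_zero]; exact el_idP
  | succ n ih =>
    change el (pcomp P (ppow P n)) = _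
    rw [el_pcomp h (ok_ppow h n), ih, pow_succ']

theorem el_inv' {A B : ℕ} (hA : ok A = true) (hB : ok B = true) (h : pcomp A B = idP) : el B = (el A)⁻¹ := by
  apply eq_inv_of_mul_eq_one_right
  rw [← el_pcomp hA hB, h, el_idP]

theorem el_ne_one {P : ℕ} (hP : ok P = true) {i : ℕ} (hi : i < 24) (h : papp P i ≠ i) : el P ≠ 1 := by
  intro h1
  have h2 := idx_el_smul hP (pt i)
  rw [h1, one_smul, idx_pt hi] at h2
  exact h h2.symm

/-- the packed `A ^ i X B ^ i` -/
def cj (X A B i : ℕ) : ℕ := pcomp (ppow A i) (pcomp X (ppow B i))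

theorem ok_cj {X A B : ℕ} (hX : ok X = true) (hA : ok A = true) (hB : ok B = true) (i : ℕ) :
    ok (cj X A B i) = true := ok_pcomp (ok_ppow hA i) (ok_pcomp hX (ok_ppow hB i))

theorem el_cj {X A B : ℕ} (hX : ok X = true) (hA : ok A = true) (hB : ok B = true) (h : pcomp A B = idP) (i : ℕ) :
    el (cj X A B i) = el A ^ i * el X * (el A ^ i)⁻¹ := by
  unfold cj
  rw [el_pcomp (ok_ppow hA i) (ok_pcomp hX (ok_ppow hB i)), el_pcomp hX (ok_ppow hB i), el_ppow hA, el_ppow hB,
    el_inv' hA hB h, inv_pow, mul_assoc]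

/-- packed product -/
def pprod : List ℕ → ℕ
  | [] => idP
  | a :: l => pcomp a (pprod l)

theorem ok_pprod {l : List ℕ} (h : ∀ P ∈ l, ok P = true) : ok (pprod l) = true := by
  induction l with
  | nil => exact ok_idP
  | cons a l ih =>
    exact ok_pcomp (h a List.mem_cons_self) (ih fun P hP => h P (List.mem_cons_of_mem _ hP))

theorem el_pprod {l : List ℕ} (h : ∀ P ∈ l, ok P = true) : el (pprod l) = (l.map el).prod := by
  induction l with
  | nil => exact el_idP
  | cons a l ih =>
    have h2 : ∀ P ∈ l, ok P = true := fun P hP => h P (List.mem_cons_of_mem _ hP)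
    change el (pcomp a (pprod l)) = _
    rw [el_pcomp (h a List.mem_cons_self) (ok_pprod h2), ih h2, List.map_cons, List.prod_cons]

/-- The conditions of `Conf.of_norm`. -/
def chk (r m N X A B : ℕ) (ls : List ℕ) : Bool :=
  ok X && ok A && ok B && Nat.beq (pcomp A B) idP && Nat.beq (ppow X r) idP && Nat.beq (ppow A N) idP &&
  ((List.range 24).any fun i => !Nat.beq (papp X i) i) &&
  ((List.range N).all fun i => Nat.beq (pcomp X (cj X A B i)) (pcomp (cj X A B i) X)) &&
  (ls.all fun l => !Nat.beq l r && Nat.beq (pprod ((List.range l).map fun j => cj X A B (m / l * j))) idP)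

theorem conf_of_chk {r m N X A B : ℕ} {ls : List ℕ} (hr : r.Prime) (hm : 1 < m) (hN : 0 < N)
    (hls : ∀ l ≤ m, l.Prime → l ∣ m → l ∈ ls) (h : chk r m N X A B ls = true)
    {K : Subgroup (Equiv.Perm GolayPt)} (hXK : (el X : Equiv.Perm GolayPt) ∈ K)
    (hAK : (el A : Equiv.Perm GolayPt) ∈ K) : Conf r m K := by
  unfold chk at h
  simp only [Bool.and_eq_true] at h
  obtain ⟨⟨⟨⟨⟨⟨⟨⟨hX, hA⟩, hB⟩, hAB⟩, hXr⟩, hAN⟩, hX1⟩, hcomm⟩, hprod⟩ := h
  have hAB := Nat.eq_of_beq_eq_true hAB
  have hXr := Nat.eq_of_beq_eq_true hXr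
  have hAN := Nat.eq_of_beq_eq_true hAN
  have key : ∀ (i : ℕ), el (cj X A B i) = el A ^ i * el X * (el A ^ i)⁻¹ := el_cj hX hA hB hAB
  have hAN' : el A ^ N = 1 := by rw [← el_ppow hA, hAN, el_idP]
  have hXr' : el X ^ r = 1 := by rw [← el_ppow hX, hXr, el_idP]
  have hX1' : el X ≠ 1 := by
    rw [List.any_eq_true] at hX1
    obtain ⟨i, hi, h1⟩ := hX1
    refine el_ne_one hX (List.mem_range.1 hi) ?_
    intro h2
    rw [h2] at h1
    simp at h1
  have hc : ∀ i : ℕ, el X * (el A ^ i * el X * (el A ^ i)⁻¹) = (el A ^ i * el X * (el A ^ i)⁻¹) * el X := by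
    intro i
    have h1 : el A ^ i = el A ^ (i % N) := by
      conv_lhs => rw [← Nat.mod_add_div i N, pow_add, pow_mul, hAN', one_pow, mul_one]
    rw [h1, ← key]
    have h2 := List.all_eq_true.1 hcomm (i % N) (List.mem_range.2 (Nat.mod_lt _ hN))
    rw [← el_pcomp hX (ok_cj hX hA hB _), ← el_pcomp (ok_cj hX hA hB _) hX, Nat.eq_of_beq_eq_true h2]
  have hn : ∀ l : ℕ, l.Prime → l ∣ m → l ≠ r ∧
      ((List.range l).map (fun j => (el A ^ (m / l)) ^ j * el X * ((el A ^ (m / l)) ^ j)⁻¹)).prod = 1 := by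
    intro l hl hlm
    have h1 := List.all_eq_true.1 hprod l (hls l (Nat.le_of_dvd (by omega) hlm) hl hlm)
    rw [Bool.and_eq_true] at h1
    refine ⟨?_, ?_⟩
    · intro h2
      have h3 := h1.1
      rw [h2] at h3
      simp at h3
    · have h2 := Nat.eq_of_beq_eq_true h1.2
      have h3 : ∀ P ∈ (List.range l).map (fun j => cj X A B (m / l * j)), ok P = true := by
        intro P hP
        obtain ⟨j, -, rfl⟩ := List.mem_map.1 hP
        exact ok_cj hX hA hB _
      have h4 := el_pprod h3
      rw [h2, el_idP, List.map_map] at h4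
      refine Eq.trans (congrArg List.prod ?_) h4.symm
      apply List.map_congr_left
      intro j _
      simp only [Function.comp]
      rw [key, pow_mul]
  exact Conf.of_norm_map hr M24.subtype M24.subtype_injective hXK hAK hXr' hX1' m hm hc hn

/-! ### Linear configurations -/

/-- packed version of `pv` -/
def pvP (X : List ℕ) : ℕ → List ℕ → ℕ
  | _, [] => idP
  | i, a :: l => pcomp (ppow (X.getD i idP) a) (pvP X (i + 1) l)

theorem ok_pvP {X : List ℕ} (hX : ∀ P ∈ X, ok P = true) (l : List ℕ) (i : ℕ) : ok (pvP X i l) = true := by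
  induction l generalizing i with
  | nil => exact ok_idP
  | cons a l ih => exact ok_pcomp (ok_ppow (ok_getD hX i) a) (ih _)

theorem el_pvP {X : List ℕ} (hX : ∀ P ∈ X, ok P = true) (l : List ℕ) (i : ℕ) :
    el (pvP X i l) = pv (fun j => el (X.getD j idP)) i l := by
  induction l generalizing i with
  | nil => exact el_idP
  | cons a l ih =>
    change el (pcomp _ _) = _ * _
    rw [el_pcomp (ok_ppow (ok_getD hX i) a) (ok_pvP hX _ _), el_ppow (ok_getD hX i), ih]

/-- The conditions of `Orb.of_lin`. -/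
def chkL (r d M m : ℕ) (X S : List ℕ) (Al : List (List (List ℕ))) (c₀ : List ℕ) : Bool :=
  (X.all fun P => ok P) && (S.all fun P => ok P) && Nat.beq X.length d &&
  (X.all fun P => Nat.beq (ppow P r) idP) &&
  (X.all fun P => X.all fun Q => Nat.beq (pcomp P Q) (pcomp Q P)) &&
  ((List.range 24).any fun i => !Nat.beq (papp (pvP X 0 c₀) i) i) &&
  ((List.range M).all fun j => Nat.beq (Al.getD j []).length d &&
    (List.range d).all fun i => Nat.beq (pcomp (S.getD j idP) (X.getD i idP))
      (pcomp (pvP X 0 ((Al.getD j []).getD i [])) (S.getD j idP))) &&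
  ((vecs r d).all (fun χ => Nat.beq (dot χ c₀ % r) 0 ||
      Nat.ble m (cnt ((List.range M).map fun j => enc r χ (Al.getD j [])))))

theorem mem_or_getD {X : List ℕ} (i : ℕ) : X.getD i idP ∈ X ∨ X.getD i idP = idP := by
  by_cases hi : i < X.length
  · left
    rw [List.getD_eq_getElem _ _ hi]
    exact List.getElem_mem hi
  · right
    exact List.getD_eq_default _ _ (by omega)

theorem orb_of_chk {r d M m : ℕ} {X S : List ℕ} {Al : List (List (List ℕ))} {c₀ : List ℕ} (hr : r.Prime)
    (h : chkL r d M m X S Al c₀ = true)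
    {K : Subgroup (Equiv.Perm GolayPt)} (hXK : ∀ P ∈ X, (el P : Equiv.Perm GolayPt) ∈ K)
    (hSK : ∀ P ∈ S, (el P : Equiv.Perm GolayPt) ∈ K) : Orb r m K := by
  unfold chkL at h
  simp only [Bool.and_eq_true] at h
  obtain ⟨⟨⟨⟨⟨⟨⟨hX, hS⟩, hXd⟩, hXr⟩, hXc⟩, hc₀⟩, hA⟩, hd⟩ := h
  have hX' : ∀ P ∈ X, ok P = true := List.all_eq_true.1 hX
  have hS' : ∀ P ∈ S, ok P = true := List.all_eq_true.1 hS
  have hXd' := Nat.eq_of_beq_eq_true hXd
  have hmemX : ∀ i, ((el (X.getD i idP) : M24) : Equiv.Perm GolayPt) ∈ K := by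
    intro i
    rcases mem_or_getD (X := X) i with h1 | h1
    · exact hXK _ h1
    · rw [h1, el_idP]; exact K.one_mem
  have hmemS : ∀ i, ((el (S.getD i idP) : M24) : Equiv.Perm GolayPt) ∈ K := by
    intro i
    rcases mem_or_getD (X := S) i with h1 | h1
    · exact hSK _ h1
    · rw [h1, el_idP]; exact K.one_mem
  refine Orb.of_lin_map hr M24.subtype M24.subtype_injective d M m (fun i => el (X.getD i idP))
    (fun j => el (S.getD j idP)) hmemX hmemS ?_ ?_ ?_ c₀ ?_ (fun j => Al.getD j []) ?_ ?_ hd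
  · intro i
    rcases mem_or_getD (X := X) i with h1 | h1
    · have h2 := Nat.eq_of_beq_eq_true (List.all_eq_true.1 hXr _ h1)
      rw [← el_ppow (hX' _ h1), h2, el_idP]
    · rw [h1, el_idP, one_pow]
  · intro i hi
    rw [List.getD_eq_default _ _ (by omega), el_idP]
  · intro i j
    rcases mem_or_getD (X := X) i with h1 | h1
    · rcases mem_or_getD (X := X) j with h2 | h2
      · have h3 := Nat.eq_of_beq_eq_true (List.all_eq_true.1 (List.all_eq_true.1 hXc _ h1) _ h2)
        rw [← el_pcomp (hX' _ h1) (hX' _ h2), h3, el_pcomp (hX' _ h2) (hX' _ h1)]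
      · rw [h2, el_idP, mul_one, one_mul]
    · rw [h1, el_idP, mul_one, one_mul]
  · rw [← el_pvP hX']
    rw [List.any_eq_true] at hc₀
    obtain ⟨i, hi, h1⟩ := hc₀
    refine el_ne_one (ok_pvP hX' _ _) (List.mem_range.1 hi) ?_
    intro h2
    rw [h2] at h1
    simp at h1
  · intro j hj
    have h1 := List.all_eq_true.1 hA j (List.mem_range.2 hj)
    rw [Bool.and_eq_true] at h1
    exact Nat.eq_of_beq_eq_true h1.1
  · intro j hj i hi
    have h1 := List.all_eq_true.1 hA j (List.mem_range.2 hj)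
    rw [Bool.and_eq_true] at h1
    have h2 := Nat.eq_of_beq_eq_true (List.all_eq_true.1 h1.2 i (List.mem_range.2 hi))
    rw [mul_inv_eq_iff_eq_mul, ← el_pvP hX', ← el_pcomp (ok_getD hS' j) (ok_getD hX' i), h2,
      el_pcomp (ok_pvP hX' _ _) (ok_getD hS' j)]

/-! ### Membership -/

/-- the mask of the dodecad of squares -/
def dm : ℕ := 340831

theorem ddm_eq : Spor.squareDodecad = fin dm := by
  unfold Spor.squareDodecad
  ext p
  rw [mem_fin]
  revert p
  decide +kernel

theorem fix_pt {P i : ℕ} (h : ok P = true) (hi : i < 24) (h0 : papp P i = i) :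
    (el P : Equiv.Perm GolayPt) ∈ MulAction.stabilizer (Equiv.Perm GolayPt) (pt i) := by
  rw [MulAction.mem_stabilizer_iff]
  have h1 := el_smul_pt h (pt i)
  rw [idx_pt hi, h0] at h1
  exact h1

theorem pt_zero : pt 0 = some 0 := by decide
theorem pt_inf : pt 23 = none := by decide

/-- the checks for `M12` -/
theorem mem_M12 {P : ℕ} (h : (ok P && Nat.beq (pimg P dm) dm) = true) : (el P : Equiv.Perm GolayPt) ∈ Spor.M12 := by
  rw [Bool.and_eq_true] at h
  refine Subgroup.mem_inf.2 ⟨(el P).2, ?_⟩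
  rw [MulAction.mem_stabilizer_iff, ddm_eq, ← coe_smul_finset, el_smul_fin h.1, Nat.eq_of_beq_eq_true h.2]

theorem mem_M11 {P : ℕ} (h : (ok P && Nat.beq (pimg P dm) dm && Nat.beq (papp P 0) 0) = true) :
    (el P : Equiv.Perm GolayPt) ∈ Spor.M11 := by
  rw [Bool.and_eq_true] at h
  refine Subgroup.mem_inf.2 ⟨mem_M12 h.1, ?_⟩
  rw [Bool.and_eq_true] at h
  rw [← pt_zero]
  exact fix_pt h.1.1 (by norm_num) (Nat.eq_of_beq_eq_true h.2)

theorem mem_M23 {P : ℕ} (h : (ok P && Nat.beq (papp P 23) 23) = true) : (el P : Equiv.Perm GolayPt) ∈ Spor.M23 := by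
  rw [Bool.and_eq_true] at h
  refine Subgroup.mem_inf.2 ⟨(el P).2, ?_⟩
  rw [← pt_inf]
  exact fix_pt h.1 (by norm_num) (Nat.eq_of_beq_eq_true h.2)

theorem mem_M22 {P : ℕ} (h : (ok P && Nat.beq (papp P 23) 23 && Nat.beq (papp P 0) 0) = true) :
    (el P : Equiv.Perm GolayPt) ∈ Spor.M22 := by
  rw [Bool.and_eq_true] at h
  refine Subgroup.mem_inf.2 ⟨mem_M23 h.1, ?_⟩
  rw [Bool.and_eq_true] at h
  rw [← pt_zero]
  exact fix_pt h.1.1 (by norm_num) (Nat.eq_of_beq_eq_true h.2)

theorem mem_M24 {P : ℕ} (_ : ok P = true) : (el P : Equiv.Perm GolayPt) ∈ M24 := (el P).2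

theorem mem_M12_all {l : List ℕ} (h : l.all (fun P => ok P && Nat.beq (pimg P dm) dm) = true) :
    ∀ P ∈ l, (el P : Equiv.Perm GolayPt) ∈ Spor.M12 := fun P hP => mem_M12 (List.all_eq_true.1 h P hP)

theorem mem_M22_all {l : List ℕ} (h : l.all (fun P => ok P && Nat.beq (papp P 23) 23 && Nat.beq (papp P 0) 0) = true) :
    ∀ P ∈ l, (el P : Equiv.Perm GolayPt) ∈ Spor.M22 := fun P hP => mem_M22 (List.all_eq_true.1 h P hP)

/-! ### The configurations -/

theorem M11_three : Conf 3 8 Spor.M11 :=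
  conf_of_chk (X := 630527314624693978108974233905804352) (A := 479769864886542441903628092729537920)
    (B := 316014722258470086609403866800867840) (N := 8) (ls := [2]) (by norm_num) (by norm_num) (by norm_num)
    (by intro l hl h1 h2; interval_cases l <;> revert h1 h2 <;> decide) (by decide +kernel)
    (mem_M11 (by decide +kernel)) (mem_M11 (by decide +kernel))

theorem M11_eleven : Conf 11 5 Spor.M11 :=
  conf_of_chk (X := 221539224934219212257031234801320352) (A := 652498006668227787304543085165562368)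
    (B := 320192461320235358293803537191573760) (N := 5) (ls := [5]) (by norm_num) (by norm_num) (by norm_num)
    (by intro l hl h1 h2; interval_cases l <;> revert h1 h2 <;> decide) (by decide +kernel)
    (mem_M11 (by decide +kernel)) (mem_M11 (by decide +kernel))

theorem M22_eleven : Conf 11 5 Spor.M22 :=
  conf_of_chk (X := 983435072843990828779021698901151808) (A := 974380510768821363662145534143076928)
    (B := 980275914351787324191492553553580224) (N := 5) (ls := [5]) (by norm_num) (by norm_num) (by norm_num)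
    (by intro l hl h1 h2; interval_cases l <;> revert h1 h2 <;> decide) (by decide +kernel)
    (mem_M22 (by decide +kernel)) (mem_M22 (by decide +kernel))

theorem M23_twentythree : Conf 23 11 Spor.M23 :=
  conf_of_chk (X := 976693691900793320807317209118689962) (A := 970207971744603358374070301543926151)
    (B := 962203231472159075170468349938600270) (N := 11) (ls := [11]) (by norm_num) (by norm_num) (by norm_num)
    (by intro l hl h1 h2; interval_cases l <;> revert h1 h2 <;> decide) (by decide +kernel)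
    (mem_M23 (by decide +kernel)) (mem_M23 (by decide +kernel))

theorem M23_two : Conf 2 15 Spor.M23 :=
  conf_of_chk (X := 958848703187523699692766263366965664) (A := 957376084499249634492516764639114599)
    (B := 975433709688801451376087726349994700) (N := 15) (ls := [3, 5]) (by norm_num) (by norm_num) (by norm_num)
    (by intro l hl h1 h2; interval_cases l <;> revert h1 h2 <;> decide) (by decide +kernel)
    (mem_M23 (by decide +kernel)) (mem_M23 (by decide +kernel))

theorem M24_eleven : Conf 11 10 M24 :=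
  conf_of_chk (X := 983435072843990828779021698901151808) (A := 15678632630496079850456276719587511)
    (B := 4221535755935243921454170431149239) (N := 10) (ls := [2, 5]) (by norm_num) (by norm_num) (by norm_num)
    (by intro l hl h1 h2; interval_cases l <;> revert h1 h2 <;> decide) (by decide +kernel)
    (mem_M24 (by decide +kernel)) (mem_M24 (by decide +kernel))

theorem M12_two : Orb 2 6 Spor.M12 :=
  orb_of_chk (r := 2) (d := 3) (M := 7) (m := 6)
    (X := [636834277060573328046299202532585990, 649511779604597245160790645063037444, 735303724893876437674422376505393545])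
    (S := [429974062501822194125215032850517420, 651252496612629869266570458847789443, 304345614436896180160779737989656640, 799148706754862800927265974346912035, 849574012962147893914107766074657196, 803171043806448989993049104878511308, 933783970360073759896874254996639136])
    (Al := [[[0, 1, 1], [0, 1, 0], [1, 1, 1]], [[0, 1, 0], [1, 0, 0], [1, 1, 1]], [[0, 1, 1], [1, 0, 1], [0, 0, 1]], [[1, 0, 1], [0, 1, 0], [1, 1, 0]], [[1, 0, 0], [1, 0, 1], [1, 1, 1]], [[0, 1, 1], [1, 0, 0], [0, 0, 1]], [[0, 1, 0], [0, 1, 1], [1, 1, 0]]])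
    (c₀ := [0, 0, 1]) (by norm_num) (by decide +kernel)
    (mem_M12_all (by decide +kernel)) (mem_M12_all (by decide +kernel))

theorem M22_three : Orb 3 8 Spor.M22 :=
  orb_of_chk (r := 3) (d := 2) (M := 8) (m := 8)
    (X := [982218091567328395089312977384480928, 966300439894665346418683072107100192])
    (S := [984818244535754528103549039458486304, 984813758347425676314344326265162784, 976461446778977426540102460121406016, 976439176918289794499797326780015168, 966190796235794854933627452897986752, 966198307826264527318091576262103232, 960803975619583053634439862874651040, 958443372439917259749197339623018912])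
    (Al := [[[1, 0], [0, 1]], [[2, 0], [0, 2]], [[1, 1], [1, 2]], [[2, 2], [2, 1]], [[2, 1], [1, 1]], [[1, 2], [2, 2]], [[0, 2], [1, 0]], [[0, 1], [2, 0]]])
    (c₀ := [1, 0]) (by norm_num) (by decide +kernel)
    (mem_M22_all (by decide +kernel)) (mem_M22_all (by decide +kernel))

theorem M22_two : Orb 2 15 Spor.M22 :=
  orb_of_chk (r := 2) (d := 4) (M := 45) (m := 15)
    (X := [970499966350631336865513127433832480, 976448692869377735270425038196672544, 963721886883755259286232606933354528, 979121071158219704299181131031480352])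
    (S := [963835757448074209953075489705986592, 971595405875247820722598230008860096, 975226716054837502162111984334605344, 971717744848304086104496313210058784, 981881220651225041253700986607843488, 981518237431098308867106318800992800, 969965127505034552538801159076875296, 965295818121562675858667692947047520, 967580377506592526687928234548431392, 970042377903569945090225978876267552, 961494253271719560597877416156763200, 972567551533096431210745611778373696, 964943772762094949871960551302038688, 967698257364451389207901229730434592, 971129998024564238366624001469547680, 963800194704854753256913936523016736, 984734140742981516324672299999596064, 981809503763738227007559109579314240, 972514380657019422686586706272095776, 979564588714666352669615587611231680, 979123712818299792504915828918031392, 966554044733958439364795147496885312, 980439663642962674173033913666091168, 966234251410408879012402426751816736, 976768609402512469857831076349707808, 983441096323158673139023629617939552,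 960866809059325339173659333906446400, 975187930860723403204413654250358304, 967882277149439615520816246435657824, 971425101926869843051546040527275072, 975715117608567564677401431257430112, 982259791264540104151337169329423904, 975143215188178936616410033620977184, 961494502881882480755820923638093248, 975409734357743034609076695034050656, 973003571952901252069400053556909120, 981651736966136114207882118512969760, 966398675346075866750681802465152544, 965949030142508190241372922314822752, 972679323776614022757834161931716704, 966442496084330895913571105457128896, 961192683227484980260593089301120064, 966281352086191599205243941079333408, 982908875070468123102197263785608224, 970295924742760389403905327229932608])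
    (Al := [[[0, 0, 0, 1], [0, 0, 1, 0], [1, 0, 0, 0], [1, 1, 1, 1]], [[0, 1, 0, 1], [1, 1, 1, 1], [1, 0, 0, 1], [0, 1, 1, 1]], [[1, 0, 0, 0], [1, 0, 1, 1], [1, 0, 1, 0], [0, 1, 1, 0]], [[0, 0, 0, 1], [0, 1, 1, 0], [1, 1, 1, 0], [1, 0, 1, 1]], [[0, 1, 1, 0], [0, 1, 1, 1], [0, 1, 0, 0], [1, 0, 0, 0]], [[0, 1, 1, 1], [0, 0, 0, 1], [1, 0, 1, 0], [0, 0, 1, 1]], [[0, 0, 0, 1], [0, 1, 0, 1], [1, 1, 0, 0], [1, 0, 1, 0]], [[0, 1, 1, 0], [1, 0, 1, 1], [1, 0, 0, 1], [0, 0, 1, 1]], [[0, 1, 0, 1], [1, 1, 1, 0], [0, 0, 1, 1], [1, 0, 0, 1]], [[1, 1, 1, 1], [0, 1, 0, 1], [1, 0, 0, 1], [0, 1, 0, 0]], [[1, 0, 1, 1], [0, 1, 0, 1], [0, 1, 1, 1], [0, 0, 0, 1]], [[1, 1, 0, 0], [1, 0, 0, 0], [0, 1, 0, 1], [1, 1, 1, 1]], [[1, 0, 0, 0], [0, 0, 1, 1], [0, 1, 0, 1], [1, 0, 1, 0]], [[1, 0, 0, 0], [0, 0, 1, 1], [1, 1, 1, 0], [0, 0, 1, 0]], [[1, 1, 1, 1], [0, 0, 1, 0], [1, 0, 0, 1], [1, 1, 1, 0]], [[1, 0, 1, 0], [0, 1, 0, 1], [1, 1, 0, 1], [1, 0, 1, 1]], [[0, 1, 1, 1], [1, 0, 0, 1], [0, 1, 0, 1], [0, 1, 0,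 0]], [[0, 1, 1, 0], [1, 0, 1, 0], [0, 1, 0, 0], [1, 0, 0, 1]], [[0, 1, 0, 1], [1, 0, 1, 0], [0, 0, 1, 0], [1, 1, 0, 0]], [[1, 1, 1, 0], [0, 1, 0, 1], [0, 1, 1, 0], [1, 0, 1, 0]], [[0, 1, 1, 0], [0, 0, 0, 1], [1, 0, 0, 1], [0, 1, 0, 0]], [[0, 0, 1, 1], [0, 0, 0, 1], [1, 1, 0, 1], [0, 1, 0, 0]], [[1, 0, 1, 0], [1, 0, 0, 1], [1, 0, 1, 1], [1, 1, 0, 1]], [[1, 1, 0, 0], [0, 0, 1, 0], [0, 1, 1, 1], [1, 1, 1, 1]], [[1, 1, 0, 0], [1, 0, 0, 0], [1, 1, 0, 1], [1, 0, 1, 1]], [[0, 1, 1, 0], [1, 0, 1, 0], [1, 1, 1, 0], [0, 1, 0, 1]], [[1, 1, 0, 1], [1, 0, 1, 1], [1, 0, 1, 0], [0, 1, 0, 1]], [[0, 0, 1, 1], [1, 0, 0, 0], [0, 1, 0, 1], [0, 1, 0, 0]], [[1, 1, 1, 0], [0, 0, 1, 0], [0, 1, 1, 0], [0, 0, 0, 1]], [[0, 1, 1, 0], [1, 1, 0, 0], [0, 0, 1, 1], [1, 0, 0, 0]], [[0, 1, 0, 0], [1, 1, 0, 1], [0, 1, 1, 1], [0, 1, 1, 0]], [[0, 0, 0, 1], [0, 1, 1, 1], [1, 1, 0, 0], [1, 1, 1, 0]], [[0, 0, 1, 0], [1, 1, 1, 1], [1, 0, 0, 1], [1, 0, 1, 0]], [[1, 0, 1, 1], [1, 1, 1, 0], [1, 0, 1, 0], [1, 1, 0, 0]], [[1,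 0, 0, 1], [1, 1, 0, 1], [0, 1, 0, 1], [1, 0, 1, 1]], [[0, 1, 0, 0], [0, 1, 0, 1], [0, 0, 1, 0], [1, 1, 1, 0]], [[1, 1, 1, 0], [1, 0, 0, 1], [0, 0, 0, 1], [0, 0, 1, 1]], [[1, 1, 1, 1], [1, 0, 1, 0], [1, 0, 1, 1], [0, 1, 1, 0]], [[0, 0, 1, 1], [1, 0, 0, 0], [1, 1, 0, 1], [1, 1, 1, 1]], [[0, 0, 1, 0], [0, 0, 0, 1], [1, 0, 0, 0], [0, 1, 0, 0]], [[0, 1, 1, 1], [0, 0, 0, 1], [1, 1, 0, 1], [0, 0, 1, 0]], [[0, 0, 0, 1], [0, 1, 0, 0], [1, 1, 1, 0], [1, 1, 0, 0]], [[1, 1, 1, 0], [0, 1, 0, 1], [1, 0, 0, 0], [1, 1, 1, 1]], [[0, 0, 1, 1], [1, 0, 0, 0], [0, 1, 1, 0], [1, 1, 0, 0]], [[1, 1, 0, 1], [1, 1, 1, 1], [0, 0, 1, 1], [1, 0, 0, 0]]])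
    (c₀ := [1, 0, 0, 0]) (by norm_num) (by decide +kernel)
    (mem_M22_all (by decide +kernel)) (mem_M22_all (by decide +kernel))

end Cfsg.Agent.H921.Spor.M24
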