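import Cfsg.Prelude.Def_GeometricClasses
import Cfsg.Agent.S0093
import Cfsg.Agent.ClassificationK.SymplecticExpFour
set_option linter.all false

-- part: H921/Burnside
section
/-!
Burnside's theorem for matrices (H921): an absolutely irreducible set of matrices generates the full matrix
algebra.
-/

set_option autoImplicit false
open Cfsg Cfsg.Geo Matrix

namespace Cfsg.Agent.H921

variable {ι : Type} [Fintype ι] [DecidableEq ι] {F : Type*} [Field F]

/-- Burnside: an absolutely irreducible set of matrices generates the full matrix algebra. -/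
theorem adjoin_eq_top {S : Set (Matrix ι ι F)} (h : ActsAbsolutelyIrreducibly S) :
    Algebra.adjoin F S = ⊤ := by
  obtain ⟨hirr, hsc⟩ := h
  set A := Algebra.adjoin F S with hA
  have hvec : ∀ (a : A) (v : ι → F), a • v = (a : Matrix ι ι F) *ᵥ v := fun a v => rfl
  have hcl : ComplementedLattice (Submodule A (ι → F)) := by
    refine ⟨fun W => ?_⟩
    let W' : Submodule F (ι → F) :=
      { carrier := W
        add_mem' := fun ha hb => W.add_mem ha hb
        zero_mem' := W.zero_mem
        smul_mem' := fun c v hv => by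
          have h := W.smul_mem (algebraMap F A c) hv
          rw [hvec] at h
          have h2 : ((algebraMap F A c : A) : Matrix ι ι F) *ᵥ v = c • v := by
            change (algebraMap F (Matrix ι ι F) c) *ᵥ v = c • v
            rw [Algebra.algebraMap_eq_smul_one, Matrix.smul_mulVec, Matrix.one_mulVec]
          rwa [h2] at h }
    have h1 : W' = ⊥ ∨ W' = ⊤ := by
      apply hirr
      intro s hs
      rw [Submodule.map_le_iff_le_comap]
      intro v hv
      exact W.smul_mem (⟨s, Algebra.subset_adjoin hs⟩ : A) hv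
    rcases h1 with h1 | h1
    · refine ⟨⊤, ?_⟩
      have : W = ⊥ := by
        rw [eq_bot_iff]
        intro v hv
        have : v ∈ W' := hv
        rwa [h1] at this
      rw [this]
      exact isCompl_bot_top
    · refine ⟨⊥, ?_⟩
      have : W = ⊤ := by
        rw [eq_top_iff]
        intro v _
        have : v ∈ W' := by rw [h1]; trivial
        exact this
      rw [this]
      exact isCompl_top_bot
  have hss : IsSemisimpleModule A (ι → F) := { toComplementedLattice := hcl }
  rw [eq_top_iff]
  intro M _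
  -- every endomorphism is scalar
  have hend : ∀ φ : Module.End A (ι → F), ∃ c : F, ∀ v, φ v = c • v := by
    intro φ
    have hlin : ∀ (c : F) (v : ι → F), φ (c • v) = c • φ v := by
      intro c v
      have h2 : ∀ w : ι → F, (algebraMap F A c : A) • w = c • w := by
        intro w
        rw [hvec]
        change (algebraMap F (Matrix ι ι F) c) *ᵥ w = c • w
        rw [Algebra.algebraMap_eq_smul_one, Matrix.smul_mulVec, Matrix.one_mulVec]
      rw [← h2, ← h2, map_smul]
    let φ' : (ι → F) →ₗ[F] (ι → F) :=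
      { toFun := φ
        map_add' := map_add φ
        map_smul' := hlin }
    obtain ⟨c, hc⟩ := hsc (LinearMap.toMatrix' φ') (by
      intro s hs
      apply Matrix.toLin'.injective
      rw [Matrix.toLin'_mul, Matrix.toLin'_mul, Matrix.toLin'_toMatrix']
      apply LinearMap.ext
      intro v
      change φ (s *ᵥ v) = s *ᵥ (φ v)
      exact map_smul φ (⟨s, Algebra.subset_adjoin hs⟩ : A) v)
    refine ⟨c, fun v => ?_⟩
    have h3 : φ' v = Matrix.toLin' (LinearMap.toMatrix' φ') v := by rw [Matrix.toLin'_toMatrix']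
    rw [hc] at h3
    change φ' v = c • v
    rw [h3, Matrix.toLin'_apply, Matrix.smul_mulVec, Matrix.one_mulVec]
  let f : Module.End (Module.End A (ι → F)) (ι → F) :=
    { toFun := fun v => M *ᵥ v
      map_add' := fun v w => Matrix.mulVec_add _ _ _
      map_smul' := fun φ v => by
        obtain ⟨c, hc⟩ := hend φ
        simp only [RingHom.id_apply]
        change M *ᵥ (φ v) = φ (M *ᵥ v)
        rw [hc, hc, Matrix.mulVec_smul] }
  classical
  obtain ⟨a, ha⟩ := jacobson_density f (Finset.univ.image (fun i : ι => (Pi.single i 1 : ι → F)))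
  have : M = (a : Matrix ι ι F) := by
    ext i j
    have h1 := ha (Pi.single j 1) (Finset.mem_image.mpr ⟨j, Finset.mem_univ _, rfl⟩)
    have h2 : M *ᵥ (Pi.single j 1) = (a : Matrix ι ι F) *ᵥ (Pi.single j 1) := h1
    rw [Matrix.mulVec_single_one, Matrix.mulVec_single_one] at h2
    exact congrFun h2 i
  rw [this]
  exact a.2

end Cfsg.Agent.H921
end

-- part: H921/SympDim
section
/-!
The dimension of an absolutely irreducible group of symplectic type (H921).

* `card_eq_of_class_two` : `R ≤ GL ι F` finite, absolutely irreducible, with `[R, R] ≤ Z(R)`: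
  `|R| = |Z(R)| (card ι)²`;
* `commutator_mem_center` : symplectic type and `r` odd with `|Z(R)| = r`, or `r = 2`: `[R, R] ≤ Z(R)`;
* `card_eq_pow` : the dimension is `r ^ k` when `|R| = |Z(R)| r ^ (2 k)`.
-/

set_option autoImplicit false
open Cfsg Cfsg.Geo Matrix

namespace Cfsg.Agent.H921

variable {ι : Type} [Fintype ι] [DecidableEq ι] {F : Type*} [Field F]

lemma center_scalar {R : Subgroup (GL ι F)} (habs : ActsAbsolutelyIrreducibly (matrixSet R)) (z : R)
    (hz : z ∈ Subgroup.center R) : ∃ c : F, (((z : R) : GL ι F) : Matrix ι ι F) = c • (1 : Matrix ι ι F) := by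
  apply habs.2
  rintro _ ⟨g, hg, rfl⟩
  have h1 := (Subgroup.mem_center_iff.mp hz) ⟨g, hg⟩
  have h2 := congrArg (fun x : R => ((x : GL ι F) : Matrix ι ι F)) h1
  simpa using h2.symm

/-- A finite absolutely irreducible group whose commutators are central: `|R| = |Z(R)| n²`. -/
theorem card_eq_of_class_two [Nonempty ι] (R : Subgroup (GL ι F)) [Finite R]
    (habs : ActsAbsolutelyIrreducibly (matrixSet R))
    (hcomm : ∀ x y : R, x * y * x⁻¹ * y⁻¹ ∈ Subgroup.center R) :
    Nat.card R = Nat.card (Subgroup.center R) * (Fintype.card ι) ^ 2 := by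
  classical
  set Z := Subgroup.center R with hZ
  have hadj := adjoin_eq_top habs
  -- the span of `R` is everything
  have hspan : Submodule.span F (matrixSet R) = ⊤ := by
    have h1 : Subalgebra.toSubmodule (Algebra.adjoin F (matrixSet R)) =
        Submodule.span F (Submonoid.closure (matrixSet R) : Set (Matrix ι ι F)) := Algebra.adjoin_eq_span F _
    have h2 : ∀ x ∈ Submonoid.closure (matrixSet R), x ∈ matrixSet R := by
      intro x hx
      induction hx using Submonoid.closure_induction with
      | mem x hx => exact hx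
      | one => exact ⟨1, R.one_mem, by simp⟩
      | mul x y _ _ hx hy =>
        obtain ⟨a, ha, rfl⟩ := hx
        obtain ⟨b, hb, rfl⟩ := hy
        exact ⟨a * b, R.mul_mem ha hb, by simp⟩
    rw [hadj, Algebra.top_toSubmodule] at h1
    rw [h1]
    apply le_antisymm
    · exact Submodule.span_mono Submonoid.subset_closure
    · exact Submodule.span_mono h2
  -- traces
  have htr : ∀ x : R, x ∉ Z → Matrix.trace (((x : R) : GL ι F) : Matrix ι ι F) = 0 := by
    intro x hx
    have h1 : ∃ y : R, ¬ y * x = x * y := by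
      by_contra hcon
      push Not at hcon
      exact hx (Subgroup.mem_center_iff.mpr hcon)
    obtain ⟨y, hy⟩ := h1
    obtain ⟨c, hc⟩ := center_scalar habs _ (hcomm y x)
    have h2 : (((y * x * y⁻¹ : R) : GL ι F) : Matrix ι ι F) = c • (((x : R) : GL ι F) : Matrix ι ι F) := by
      have h3 : (y * x * y⁻¹ : R) = (y * x * y⁻¹ * x⁻¹) * x := by group
      rw [h3, Subgroup.coe_mul, Units.val_mul, hc, Matrix.smul_mul, Matrix.one_mul]
    have h4 : Matrix.trace (((y * x * y⁻¹ : R) : GL ι F) : Matrix ι ι F) =
        Matrix.trace (((x : R) : GL ι F) : Matrix ι ι F) := by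
      have h5 : (((y * x * y⁻¹ : R) : GL ι F) : Matrix ι ι F) =
          (((y : R) : GL ι F) : Matrix ι ι F) * (((x : R) : GL ι F) : Matrix ι ι F) *
            (((y⁻¹ : R) : GL ι F) : Matrix ι ι F) := by simp
      rw [h5, Matrix.trace_mul_comm, ← Matrix.mul_assoc]
      have h6 : (((y⁻¹ : R) : GL ι F) : Matrix ι ι F) * (((y : R) : GL ι F) : Matrix ι ι F) = 1 := by
        rw [← Units.val_mul, ← Subgroup.coe_mul, inv_mul_cancel]; simp
      rw [h6, Matrix.one_mul]
    rw [h2, Matrix.trace_smul, smul_eq_mul] at h4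
    have hc1 : c ≠ 1 := by
      intro hc1
      apply hy
      rw [hc1, one_smul] at hc
      have h7 : (y * x * y⁻¹ * x⁻¹ : R) = 1 := by
        apply Subtype.ext
        apply Units.ext
        simpa using hc
      calc y * x = (y * x * y⁻¹ * x⁻¹) * (x * y) := by group
        _ = x * y := by rw [h7, one_mul]
    have h8 : (c - 1) * Matrix.trace (((x : R) : GL ι F) : Matrix ι ι F) = 0 := by
      rw [sub_mul, h4]; ring
    rcases mul_eq_zero.mp h8 with h | h
    · exact absurd (sub_eq_zero.mp h) hc1
    · exact h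
  have hn : ((Fintype.card ι : ℕ) : F) ≠ 0 := by
    intro hn
    have h1 : ∀ M : Matrix ι ι F, Matrix.trace M = 0 := by
      intro M
      have hM : M ∈ Submodule.span F (matrixSet R) := by rw [hspan]; trivial
      induction hM using Submodule.span_induction with
      | mem x hx =>
        obtain ⟨g, hg, rfl⟩ := hx
        by_cases hz : (⟨g, hg⟩ : R) ∈ Z
        · obtain ⟨c, hc⟩ := center_scalar habs _ hz
          change Matrix.trace (g : Matrix ι ι F) = 0
          change (g : Matrix ι ι F) = c • 1 at hc
          rw [hc, Matrix.trace_smul, Matrix.trace_one, hn, smul_zero]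
        · exact htr ⟨g, hg⟩ hz
      | zero => simp
      | add x y _ _ hx hy => rw [Matrix.trace_add, hx, hy, add_zero]
      | smul a x _ hx => rw [Matrix.trace_smul, hx, smul_zero]
    obtain ⟨i⟩ := (inferInstance : Nonempty ι)
    have h2 := h1 (Matrix.single i i 1)
    rw [Matrix.trace_single_eq_same] at h2
    exact one_ne_zero h2
  -- the basis
  let b : R ⧸ Z → Matrix ι ι F := fun t => (((Quotient.out t : R) : GL ι F) : Matrix ι ι F)
  let _ : Fintype (R ⧸ Z) := Fintype.ofFinite _
  have hli : LinearIndependent F b := by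
    rw [Fintype.linearIndependent_iff]
    intro g hg t₀
    have h1 := congrArg (fun M => Matrix.trace (M * ((((Quotient.out t₀ : R)⁻¹ : R) : GL ι F) : Matrix ι ι F))) hg
    simp only [Matrix.zero_mul, Matrix.trace_zero, Finset.sum_mul, Matrix.trace_sum] at h1
    rw [Finset.sum_eq_single t₀] at h1
    · have h2 : b t₀ * ((((Quotient.out t₀ : R)⁻¹ : R) : GL ι F) : Matrix ι ι F) = 1 := by
        change (((Quotient.out t₀ : R) : GL ι F) : Matrix ι ι F) * _ = 1
        rw [← Units.val_mul, ← Subgroup.coe_mul, mul_inv_cancel]; simp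
      rw [Matrix.smul_mul, h2, Matrix.trace_smul, Matrix.trace_one, smul_eq_mul] at h1
      rcases mul_eq_zero.mp h1 with h | h
      · exact h
      · exact absurd h hn
    · intro t _ ht
      have h2 : b t * ((((Quotient.out t₀ : R)⁻¹ : R) : GL ι F) : Matrix ι ι F) =
          (((Quotient.out t * (Quotient.out t₀)⁻¹ : R) : GL ι F) : Matrix ι ι F) := by simp [b]
      rw [Matrix.smul_mul, h2, Matrix.trace_smul, htr, smul_zero]
      intro hz
      apply ht
      have h3 : (Quotient.out t₀)⁻¹ * (Quotient.out t) ∈ Z := by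
        have h4 : (Quotient.out t₀ : R)⁻¹ * Quotient.out t = Quotient.out t * (Quotient.out t₀)⁻¹ := by
          have h5 := (Subgroup.mem_center_iff.mp hz) (Quotient.out t₀)⁻¹
          calc (Quotient.out t₀ : R)⁻¹ * Quotient.out t
              = ((Quotient.out t₀ : R)⁻¹ * (Quotient.out t * (Quotient.out t₀)⁻¹)) * Quotient.out t₀ := by group
            _ = _ := by rw [h5]; group
        rw [h4]; exact hz
      have h6 := QuotientGroup.eq.mpr h3
      rw [QuotientGroup.out_eq', QuotientGroup.out_eq'] at h6
      exact h6.symm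
    · intro h
      exact absurd (Finset.mem_univ _) h
  have hsp : ⊤ ≤ Submodule.span F (Set.range b) := by
    rw [← hspan, Submodule.span_le]
    rintro _ ⟨g, hg, rfl⟩
    set x : R := ⟨g, hg⟩ with hx
    have h1 : (Quotient.out (x : R ⧸ Z))⁻¹ * x ∈ Z := by
      rw [← QuotientGroup.eq, QuotientGroup.out_eq']
    obtain ⟨c, hc⟩ := center_scalar habs _ h1
    have h2 : (g : Matrix ι ι F) = c • b (x : R ⧸ Z) := by
      have h3 : x = Quotient.out (x : R ⧸ Z) * ((Quotient.out (x : R ⧸ Z))⁻¹ * x) := by group
      have h4 : (g : Matrix ι ι F) = (((x : R) : GL ι F) : Matrix ι ι F) := rfl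
      rw [h4]
      conv_lhs => rw [h3]
      rw [Subgroup.coe_mul, Units.val_mul, hc, Matrix.mul_smul, Matrix.mul_one]
    change (g : Matrix ι ι F) ∈ _
    rw [h2]
    exact Submodule.smul_mem _ _ (Submodule.subset_span ⟨_, rfl⟩)
  have hcard : Fintype.card (R ⧸ Z) = Fintype.card ι * Fintype.card ι := by
    have h1 := Module.finrank_eq_card_basis (Module.Basis.mk hli hsp)
    rw [← h1, Module.finrank_matrix]
    simp
  have h9 := Subgroup.card_eq_card_quotient_mul_card_subgroup Z
  rw [h9, Nat.card_eq_fintype_card (α := R ⧸ Z), hcard]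
  ring

/-- In a group of symplectic type with `r` odd and `|Z| = r` the commutators are central. -/
theorem commutator_mem_center_odd {R : Type*} [Group R] [Finite R] {r : ℕ} [Fact r.Prime]
    (hR : IsPGroup r R) (hcyc : ∀ A : Subgroup R, A.Characteristic → IsMulCommutative A → IsCyclic A)
    (hexp : Monoid.exponent R = r) (hZ : Nat.card (Subgroup.center R) = r) (x y : R) :
    x * y * x⁻¹ * y⁻¹ ∈ Subgroup.center R := by
  open scoped commutatorElement in
  obtain ⟨H, hHc, _, hcm, hCH⟩ := Cfsg.Agent.S0093.aux (p := r) hR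
  have hHn : H.Normal := inferInstance
  set C := Subgroup.centralizer (H : Set R) with hC
  have hCc : C.Characteristic := inferInstance
  have hCcomm : ∀ a ∈ C, ∀ h ∈ H, h * a = a * h := fun a ha h hh =>
    Subgroup.mem_centralizer_iff.mp ha h hh
  have hCab : IsMulCommutative C := ⟨⟨fun a b => Subtype.ext (hCcomm b b.2 a (hCH a.2))⟩⟩
  have hCcyc : IsCyclic C := hcyc C hCc hCab
  have hZC : Subgroup.center R ≤ C := Subgroup.center_le_centralizer _
  have hcard : Nat.card C ∣ r := by
    obtain ⟨g, hg⟩ := hCcyc.exists_zpow_surjective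
    have h1 : Nat.card C = orderOf g := by
      rw [← Nat.card_zpowers]
      have : Subgroup.zpowers g = ⊤ := by
        rw [eq_top_iff]; intro a _; obtain ⟨k, hk⟩ := hg a; exact ⟨k, hk⟩
      rw [this, Nat.card_congr Subgroup.topEquiv.toEquiv]
    rw [h1]
    apply orderOf_dvd_of_pow_eq_one
    apply Subtype.ext
    rw [Subgroup.coe_pow, Subgroup.coe_one, ← hexp]
    exact Monoid.pow_exponent_eq_one _
  have hCZ : C = Subgroup.center R := by
    symm
    apply Subgroup.eq_of_le_of_card_ge hZC
    rw [hZ]
    exact Nat.le_of_dvd (Fact.out : r.Prime).pos hcard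
  have h1 : ⁅⁅H, (⊤ : Subgroup R)⁆, (⊤ : Subgroup R)⁆ = ⊥ := by
    rw [eq_bot_iff, Subgroup.commutator_le]
    intro a ha b _
    have ha' : a ∈ Subgroup.center R := by rw [← hCZ]; exact (hcm ha).2
    rw [Subgroup.mem_bot, commutatorElement_eq_one_iff_mul_comm]
    exact ((Subgroup.mem_center_iff.mp ha') b).symm
  have h2 : ⁅⁅(⊤ : Subgroup R), H⁆, (⊤ : Subgroup R)⁆ = ⊥ := by
    rw [Subgroup.commutator_comm ⊤ H]; exact h1
  have h3 : ⁅⁅(⊤ : Subgroup R), (⊤ : Subgroup R)⁆, H⁆ = ⊥ :=
    Subgroup.commutator_commutator_eq_bot_of_rotate h2 h1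
  rw [← hCZ, hC, Subgroup.mem_centralizer_iff]
  intro h hh
  have h4 : ⁅⁅x, y⁆, h⁆ ∈ ⁅⁅(⊤ : Subgroup R), (⊤ : Subgroup R)⁆, H⁆ :=
    Subgroup.commutator_mem_commutator (Subgroup.commutator_mem_commutator trivial trivial) hh
  rw [h3, Subgroup.mem_bot, commutatorElement_eq_one_iff_mul_comm] at h4
  exact h4.symm

/-- In a group of symplectic type and exponent `r · gcd(2, r)`, with `|Z| = r` if `r` is odd, commutators are
central. -/
theorem commutator_mem_center {r : ℕ} {R : Subgroup (GL ι F)} [Finite R] (hR : IsSymplecticTypeGroup r R)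
    (hZ : Odd r → Nat.card (Subgroup.center R) = r) (x y : R) :
    x * y * x⁻¹ * y⁻¹ ∈ Subgroup.center R := by
  have : Fact r.Prime := ⟨hR.prime⟩
  rcases hR.prime.eq_two_or_odd' with h2 | hodd
  · subst h2
    have hexp : Monoid.exponent R = 4 := by rw [hR.exponent_eq]; norm_num
    have h4 : ∀ q : R, q ^ 4 = 1 := fun q => by rw [← hexp]; exact Monoid.pow_exponent_eq_one q
    exact (Cfsg.Agent.ClassificationK.SymplecticExpFour.commutator_central
      ⟨hR.pGroup, hR.cyclic_of_characteristic⟩ h4 x y).1
  · have hexp : Monoid.exponent R = r := by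
      rw [hR.exponent_eq, (Nat.coprime_two_left.mpr hodd).gcd_eq_one, mul_one]
    exact commutator_mem_center_odd hR.pGroup hR.cyclic_of_characteristic hexp (hZ hodd) x y

/-- The dimension of an absolutely irreducible group of symplectic type. -/
theorem card_eq_pow [Nonempty ι] {r k : ℕ} {R : Subgroup (GL ι F)} [Finite R] (hR : IsSymplecticTypeGroup r R)
    (habs : ActsAbsolutelyIrreducibly (matrixSet R))
    (hZ : Odd r → Nat.card (Subgroup.center R) = r)
    (hc : Nat.card R = Nat.card (Subgroup.center R) * r ^ (2 * k)) :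
    Fintype.card ι = r ^ k := by
  have h1 := card_eq_of_class_two R habs (commutator_mem_center hR hZ)
  rw [hc] at h1
  have hpos : 0 < Nat.card (Subgroup.center R) := Nat.card_pos
  have h2 := Nat.eq_of_mul_eq_mul_left hpos h1
  rw [mul_comm 2 k, pow_mul] at h2
  exact (Nat.pow_left_injective two_ne_zero h2).symm

/-- `|Z(R)| = r`, `|R| = r^(1+2k)`. -/
theorem card_eq_pow_of_center_prime [Nonempty ι] {r k : ℕ} {R : Subgroup (GL ι F)} [Finite R]
    (hR : IsSymplecticTypeGroup r R) (habs : ActsAbsolutelyIrreducibly (matrixSet R))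
    (hZ : Nat.card (Subgroup.center R) = r) (hc : Nat.card R = r ^ (1 + 2 * k)) :
    Fintype.card ι = r ^ k :=
  card_eq_pow hR habs (fun _ => hZ) (by rw [hc, hZ, pow_add, pow_one])

/-- `|Z(R)| = 4`, `|R| = 2^(2+2k)`. -/
theorem card_eq_pow_of_center_four [Nonempty ι] {k : ℕ} {R : Subgroup (GL ι F)} [Finite R]
    (hR : IsSymplecticTypeGroup 2 R) (habs : ActsAbsolutelyIrreducibly (matrixSet R))
    (hZ : Nat.card (Subgroup.center R) = 4) (hc : Nat.card R = 2 ^ (2 + 2 * k)) :
    Fintype.card ι = 2 ^ k :=
  card_eq_pow hR habs (fun h => absurd h (by decide)) (by rw [hc, hZ, pow_add]; norm_num)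

end Cfsg.Agent.H921
end
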