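import Cfsg.Agent.H175.BdSp_m3
import Cfsg.Agent.OddHalf.Table.OutRu
import Cfsg.Agent.Prune
set_option linter.all false
prune_inst 0x7f00000000000000000000000000000000000000000000000000000000000000000000000000000000000000000000000000000000000000000000000000000000000000000000000000000000000000003fffffffffffffffffffffffffffbeffbdffffffff
open scoped Cfsg.Agent.FastGrp

/-!
# The Rudvalis group: configurations
-/

set_option autoImplicit false
set_option maxRecDepth 100000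

namespace Cfsg.Agent.H921.Spor.Ru

open Cfsg.Agent.SporadicB Cfsg.Agent.OddHalf.Table

/-- the words of `OutRu` -/
noncomputable def wd : Wd RuOrder.H where
  W := OutRu.W
  nil := OutRu.W_nil
  app := OutRu.W_append
  eq := OutRu.eqw
  eq_sound := OutRu.eqw_sound
  ne := fun u => !(Nat.beq (OutRu.ev u 0) (OutRu.ev [] 0))
  ne_sound := by
    intro u h
    rw [← OutRu.W_nil]
    exact OutRu.ne_of_ev (by simpa using h)

theorem Ru_twentynine : Conf 29 14 Cfsg.Spor.Ru :=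
  (wd.conf_prime (r := 29) (k := 4) [0] [2] 14 (by norm_num) (by decide +kernel) (by decide)).of_equiv'
    RuLat.Main.equiv

theorem Ru_thirteen : Conf 13 12 Cfsg.Spor.Ru :=
  (wd.conf_prime (r := 13) (k := 2) [0, 2, 4, 0, 4, 0, 2, 4, 0, 4]
    [0, 0, 2, 0, 2, 0, 3, 4, 0, 2, 0, 4, 0, 3, 3, 4, 2, 0, 2, 1, 4, 3, 1, 4, 0, 0, 4, 1, 1, 1, 2, 0, 4, 1, 1, 4, 0, 3, 3, 1, 4, 0, 2, 0, 4, 1, 4, 2, 1, 2, 2, 1, 4, 1, 2, 0, 4, 1, 4, 2, 1, 1, 4, 1, 4, 1, 4, 0, 0, 4, 1, 2, 1, 4, 1, 1, 4, 0, 2, 0, 2, 2, 4, 0, 2, 2, 0, 4, 0, 4, 1, 1, 4, 0, 4, 1, 4, 0, 4, 1, 4, 1, 1, 3, 0, 2, 1, 2, 1, 4, 1, 1, 4, 3, 1, 1]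
    12 (by norm_num) (by decide +kernel) (by decide)).of_equiv'
    RuLat.Main.equiv

end Cfsg.Agent.H921.Spor.Ru
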