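import Cfsg.Agent.H921.SporM24
import Cfsg.Agent.J4.Lower
import Cfsg.Agent.J4.Pres
import Cfsg.Agent.S0365
import Cfsg.Agent.H175.BdSp_m3
import Cfsg.Agent.KFacts.He.Words
import Cfsg.Agent.UGT.EndJ1.Main_m3
import Cfsg.Agent.Lib.ListFast
import Cfsg.Agent.Prune
set_option linter.all false

-- part: H921/SporMore
section
set_option linter.all false
open scoped Cfsg.Agent.FastGrp

/-!
# `M12`, `M23`, `M24`, `J4`: configurations by inclusion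
-/

set_option autoImplicit false

namespace Cfsg.Agent.H921.Spor

open Cfsg.Agent.H921.Spor.M24

theorem Conf.of_le {r m : ℕ} {G : Type*} [Group G] {H K : Subgroup G} (h : Conf r m H) (hle : H ≤ K) : Conf r m K :=
  h.of_inj (Subgroup.inclusion hle) (Subgroup.inclusion_injective hle)

theorem Orb.of_le {r m : ℕ} {G : Type*} [Group G] {H K : Subgroup G} (h : Orb r m H) (hle : H ≤ K) : Orb r m K :=
  h.of_inj (Subgroup.inclusion hle) (Subgroup.inclusion_injective hle)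

namespace M24

theorem M11_le : Cfsg.Spor.M11 ≤ Cfsg.Spor.M12 := inf_le_left
theorem M22_le : Cfsg.Spor.M22 ≤ Cfsg.Spor.M23 := inf_le_left
theorem M23_le : Cfsg.Spor.M23 ≤ M24 := inf_le_left

theorem M12_three : Conf 3 8 Spor.M12 := M11_three.of_le M11_le
theorem M12_eleven : Conf 11 5 Spor.M12 := M11_eleven.of_le M11_le
theorem M23_three : Orb 3 8 Spor.M23 := M22_three.of_le M22_le
theorem M24_three : Orb 3 8 M24 := M23_three.of_le M23_le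
theorem M24_two : Conf 2 15 M24 := M23_two.of_le M23_le
theorem M24_twentythree : Conf 23 11 M24 := M23_twentythree.of_le M23_le

end M24

namespace J4

open Cfsg.Agent.J4.Rep112 Cfsg.Agent.J4.Lower Cfsg.Agent.J4.Pres Cfsg.Agent.J4.M24Hom

theorem phi_injective : Function.Injective phi := by
  have hsimple : IsSimpleGroup Cfsg.M24 := Cfsg.Agent.S0365.result
  rw [← MonoidHom.ker_eq_bot_iff]
  refine (hsimple.eq_bot_or_eq_top_of_normal phi.ker inferInstance).resolve_right fun h => ?_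
  have h1 : XM ∈ phi.ker := by rw [h]; exact Subgroup.mem_top _
  rw [MonoidHom.mem_ker, phi_X] at h1
  exact xg_ne (by rw [h1, map_one])

theorem J4_three : Orb 3 8 Cfsg.Spor.J4 := M24_three.of_inj phi phi_injective
theorem J4_two : Conf 2 15 Cfsg.Spor.J4 := M24_two.of_inj phi phi_injective
theorem J4_eleven : Conf 11 10 Cfsg.Spor.J4 := M24_eleven.of_inj phi phi_injective
end J4

end Cfsg.Agent.H921.Spor
end

-- part: H921/SporHe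
section
set_option linter.all false
open scoped Cfsg.Agent.FastGrp

/-!
# The Held group: configurations
-/

set_option autoImplicit false
set_option maxRecDepth 100000

namespace Cfsg.Agent.H921.Spor.He

open Cfsg.Spor Cfsg.Spor.He Cfsg.Agent.SporadicB.HePerm Cfsg.Agent.FixBN.HeCent

/-- the generators -/
def gn : ℕ → Cfsg.Spor.He.Gen
  | 0 => .a
  | 1 => .b
  | 2 => .c
  | 3 => .d
  | 4 => .e
  | 5 => .f
  | _ => .g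

/-- value of a word at a point -/
def ev (u : List ℕ) (i : ℕ) : ℕ := act (u.map gn) i

/-- comparison at the base points -/
def eqb (u v : List ℕ) : Bool :=
  Nat.beq (ev u 0) (ev v 0) && Nat.beq (ev u 1) (ev v 1) && Nat.beq (ev u 32) (ev v 32) && Nat.beq (ev u 8) (ev v 8)

/-- words in the generators -/
noncomputable def wd : Wd Cfsg.Spor.He where
  W := fun u => Cfsg.Agent.SporadicB.HePerm.wd (u.map gn)
  nil := rfl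
  app := fun u v => by rw [List.map_append, wd_append]
  eq := eqb
  eq_sound := by
    intro u v h
    unfold eqb at h
    simp only [Bool.and_eq_true] at h
    obtain ⟨⟨⟨h0, h1⟩, h2⟩, h3⟩ := h
    have key : ∀ i : Fin 2058, Nat.beq (ev u i) (ev v i) = true →
        phi (Cfsg.Agent.SporadicB.HePerm.wd (u.map gn)) i = phi (Cfsg.Agent.SporadicB.HePerm.wd (v.map gn)) i := by
      intro i hi
      apply Fin.ext
      rw [phi_wd_apply, phi_wd_apply]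
      exact Nat.eq_of_beq_eq_true hi
    exact Cfsg.Agent.KFacts.He.Words.eq_of_base (key 0 h0) (key 1 h1) (key 32 h2) (key 8 h3)
  ne := fun u => (List.range 8).any fun i => !Nat.beq (ev u i) i
  ne_sound := by
    intro u h h1
    rw [List.any_eq_true] at h
    obtain ⟨i, hi, h2⟩ := h
    have hi' : i < 2058 := lt_trans (List.mem_range.1 hi) (by norm_num)
    have h4 := phi_wd_apply (u.map gn) ⟨i, hi'⟩
    rw [h1, map_one] at h4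
    have h5 : i = ev u i := h4
    rw [← h5] at h2
    simp at h2

theorem He_seventeen : Conf 17 8 Cfsg.Spor.He :=
  wd.conf_prime (r := 17) (k := 9) [1, 2, 3, 5]
    [1, 0, 3, 5, 2, 3, 4, 3, 5, 1, 2, 5, 6, 3, 5, 0, 4, 3, 2, 5, 6, 1, 0, 3, 6, 2, 3, 2, 3, 2, 6, 3, 5, 1, 2, 3, 6, 2,
    3, 2, 6, 3, 2, 0, 2, 3, 1, 2, 3, 4, 1, 2, 1, 3, 2, 3, 4, 2, 0, 1, 2, 3, 2, 1, 0, 3, 2, 3]
    8 (by norm_num) (by decide +kernel) (by decide)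

private noncomputable def _root_.Cfsg.Agent.LsF.fe37945_0 : {f // @Cfsg.Agent.H921.Spor.Wd.rep = f} := ⟨_, by first | (delta Cfsg.Agent.H921.Spor.Wd.rep Nat.brecOn.go Nat.brecOn Cfsg.Agent.H921.Spor.Wd.rep._f; rewrite [Cfsg.Agent.LsF.lappend_pat]; (try delta Cfsg.Agent.H921.Spor.Wd.rep.match_1); (try delta Nat.casesOn); first | dsimp -zeta only | exact rfl) | exact rfl⟩
private noncomputable def _root_.Cfsg.Agent.LsF.fe37945_1 : {f // @Cfsg.Agent.H921.Spor.Wd.pvW = f} := ⟨_, by first | (delta Cfsg.Agent.H921.Spor.Wd.pvW List.brecOn List.brecOn.go Cfsg.Agent.H921.Spor.Wd.pvW._f; rewrite [Cfsg.Agent.LsF.fe37945_0.2, Cfsg.Agent.LsF.nadd_pat, Cfsg.Agent.LsF.lappend_pat, Cfsg.Agent.LsF.getD_eq]; (try delta Cfsg.Agent.H921.Spor.Wd.pvW.match_1); (try delta List.casesOn); first | dsimp -zeta only | exact rfl) | exact rfl⟩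
private noncomputable def _root_.Cfsg.Agent.LsF.fe37945_2 : {f // @Cfsg.Agent.H921.Spor.vecs = f} := ⟨_, by first | (delta Cfsg.Agent.H921.Spor.vecs Cfsg.Agent.H921.Spor.vecs._f Nat.brecOn.go Nat.brecOn; rewrite [Cfsg.Agent.LsF.map_eq, Cfsg.Agent.LsF.flatMap_eq, Cfsg.Agent.LsF.range_eq]; (try delta Cfsg.Agent.H921.Spor.vecs.match_1); (try delta Nat.casesOn); first | dsimp -zeta only | exact rfl) | exact rfl⟩
private noncomputable def _root_.Cfsg.Agent.LsF.fe37945_3 : {f // @Cfsg.Agent.H921.Spor.dot = f} := ⟨_, by first | (delta Cfsg.Agent.H921.Spor.dot List.brecOn List.brecOn.go Cfsg.Agent.H921.Spor.dot._f; rewrite [Cfsg.Agent.LsF.nadd_pat, Cfsg.Agent.LsF.nmul_pat]; (try delta Cfsg.Agent.H921.Spor.dot.match_1); (try delta Cfsg.Agent.H921.Spor.dot._sparseCasesOn_1); first | dsimp -zeta only | exact rfl) | exact rfl⟩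
private noncomputable def _root_.Cfsg.Agent.LsF.fe37945_4 : {f // @Cfsg.Agent.H921.Spor.cnt = f} := ⟨_, by first | (delta Cfsg.Agent.H921.Spor.cnt List.brecOn List.brecOn.go Cfsg.Agent.H921.Spor.cnt._f; rewrite [Cfsg.Agent.LsF.nadd_pat, Cfsg.Agent.LsF.any_eq, Cfsg.Agent.LsF.dBoolEq_eq, Cfsg.Agent.LsF.ite_eq]; (try delta Cfsg.Agent.H921.Spor.cnt.match_1); (try delta List.casesOn); first | dsimp -zeta only | exact rfl) | exact rfl⟩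
private noncomputable def _root_.Cfsg.Agent.LsF.fe37945_5 : {f // @Cfsg.Agent.H921.Spor.enc = f} := ⟨_, by first | (delta Cfsg.Agent.H921.Spor.enc List.brecOn List.brecOn.go Cfsg.Agent.H921.Spor.enc._f; rewrite [Cfsg.Agent.LsF.fe37945_3.2, Cfsg.Agent.LsF.nadd_pat, Cfsg.Agent.LsF.nmul_pat, Cfsg.Agent.LsF.nmod_pat]; (try delta Cfsg.Agent.H921.Spor.enc.match_1); (try delta List.casesOn); first | dsimp -zeta only | exact rfl) | exact rfl⟩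
private noncomputable def _root_.Cfsg.Agent.LsF.fe37945_6 : {f // @Cfsg.Agent.H921.Spor.mone = f} := ⟨_, by first | (delta Cfsg.Agent.H921.Spor.mone; rewrite [Cfsg.Agent.LsF.cond_eq, Cfsg.Agent.LsF.map_eq, Cfsg.Agent.LsF.range_eq]; exact rfl) | exact rfl⟩
private noncomputable def _root_.Cfsg.Agent.LsF.fe37945_7 : {f // @Cfsg.Agent.H921.Spor.vadd = f} := ⟨_, by first | (delta Cfsg.Agent.H921.Spor.vadd Cfsg.Agent.H921.Spor.vadd._f List.brecOn List.brecOn.go; rewrite [Cfsg.Agent.LsF.nadd_pat, Cfsg.Agent.LsF.nmod_pat]; (try delta Cfsg.Agent.H921.Spor.vadd.match_1); (try delta Cfsg.Agent.H921.Spor.vadd._sparseCasesOn_1); first | dsimp -zeta only | exact rfl) | exact rfl⟩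
private noncomputable def _root_.Cfsg.Agent.LsF.fe37945_8 : {f // @Cfsg.Agent.H921.Spor.vsmul = f} := ⟨_, by first | (delta Cfsg.Agent.H921.Spor.vsmul; rewrite [Cfsg.Agent.LsF.nmul_pat, Cfsg.Agent.LsF.nmod_pat, Cfsg.Agent.LsF.map_eq]; exact rfl) | exact rfl⟩
private noncomputable def _root_.Cfsg.Agent.LsF.fe37945_9 : {f // @Cfsg.Agent.H921.Spor.lincomb = f} := ⟨_, by first | (delta Cfsg.Agent.H921.Spor.lincomb List.brecOn List.brecOn.go Cfsg.Agent.H921.Spor.lincomb._f; rewrite [Cfsg.Agent.LsF.fe37945_7.2, Cfsg.Agent.LsF.fe37945_8.2, Cfsg.Agent.LsF.replicate_eq]; (try delta Cfsg.Agent.H921.Spor.lincomb.match_1); (try delta Cfsg.Agent.H921.Spor.vadd._sparseCasesOn_1); first | dsimp -zeta only | exact rfl) | exact rfl⟩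
private noncomputable def _root_.Cfsg.Agent.LsF.fe37945_10 : {f // @Cfsg.Agent.H921.Spor.mmul = f} := ⟨_, by first | (delta Cfsg.Agent.H921.Spor.mmul; rewrite [Cfsg.Agent.LsF.fe37945_9.2, Cfsg.Agent.LsF.map_eq]; exact rfl) | exact rfl⟩
private noncomputable def _root_.Cfsg.Agent.LsF.fe37945_11 : {f // @Cfsg.Agent.H921.Spor.mword = f} := ⟨_, by first | (delta Cfsg.Agent.H921.Spor.mword List.brecOn List.brecOn.go Cfsg.Agent.H921.Spor.mword._f; rewrite [Cfsg.Agent.LsF.fe37945_6.2, Cfsg.Agent.LsF.fe37945_10.2, Cfsg.Agent.LsF.getD_eq]; (try delta Cfsg.Agent.H921.Spor.mword.match_1); (try delta List.casesOn); first | dsimp -zeta only | exact rfl) | exact rfl⟩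
private noncomputable def _root_.Cfsg.Agent.LsF.fe37945_12 : {f // @Cfsg.Agent.H921.Spor.chkG0 = f} := ⟨_, by first | (delta Cfsg.Agent.H921.Spor.chkG0; rewrite [Cfsg.Agent.LsF.fe37945_0.2, Cfsg.Agent.LsF.fe37945_1.2, Cfsg.Agent.LsF.fe37945_2.2, Cfsg.Agent.LsF.fe37945_3.2, Cfsg.Agent.LsF.fe37945_4.2, Cfsg.Agent.LsF.fe37945_5.2, Cfsg.Agent.LsF.fe37945_11.2, Cfsg.Agent.LsF.nmod_pat, Cfsg.Agent.LsF.lappend_pat, Cfsg.Agent.LsF.and_eq, Cfsg.Agent.LsF.or_eq, Cfsg.Agent.LsF.all_eq, Cfsg.Agent.LsF.map_eq, Cfsg.Agent.LsF.range_eq, Cfsg.Agent.LsF.getD_eq, Cfsg.Agent.LsF.length_eq]; exact rfl) | exact rfl⟩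
theorem He_seven : Orb 7 42 Cfsg.Spor.He :=
  (wd.orb_gen (r := 7) (d := 2) (m := 42)
    (X := [[3, 4, 3, 5, 0, 3, 4, 3, 5, 4, 2, 3, 5, 1, 6, 3, 5, 0, 2, 1, 0, 3, 1, 2, 3, 6, 0, 2, 3, 6, 2, 3, 2, 1, 2, 3,
    2, 4, 1, 0, 1], [6, 5, 2, 1, 3, 2, 5, 4, 3, 2, 3, 5, 0, 3, 1, 2, 3, 6, 2, 3, 5, 3, 6, 5, 2, 0, 1, 2, 3, 2, 5,
    1, 0, 2, 6, 3, 5, 4, 6, 1, 0, 1]])
    (G := [[1, 0, 6, 0, 3, 2, 3, 2, 6, 4, 3, 2, 3, 2, 3, 2], [6, 3, 5, 1, 3, 2, 1, 3, 6, 5, 0, 1, 3, 2, 1, 6, 5, 4, 2,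
    3, 2, 1, 0, 1]])
    (B := [[[3, 3], [6, 4]], [[4, 4], [3, 5]]])
    (S := [[], [0], [0, 0], [0, 0, 0], [1, 1, 0, 1], [1, 0, 1, 1], [1, 0, 1, 1, 0], [0, 1, 1, 0, 1], [1, 0, 1, 1, 0,
    0], [0, 1, 1, 0, 1, 0], [1, 1, 1, 0, 1, 0], [0, 1, 0, 1, 1, 0], [1, 1, 0, 1, 0, 1], [0, 1, 0, 1, 1, 1], [0,
    1, 0, 1, 1, 0, 0], [1, 1, 0, 1, 0, 1, 0], [0, 1, 0, 1, 1, 1, 0], [1, 0, 1, 1, 1, 0, 1], [1, 1, 0, 1, 0, 1, 0,
    0], [0, 1, 1, 1, 0, 1, 0, 0], [0, 1, 1, 1, 0, 1, 0, 0, 0], [1, 0, 1, 0, 1, 1, 0, 0, 0], [1, 0, 1, 0, 1, 1, 1,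
    0, 0], [1, 1, 1, 1, 1, 1, 0, 1, 0, 0], [1, 1, 0, 1, 1, 1, 1, 1, 1, 0], [1, 1, 1, 1, 0, 1, 1, 0, 1, 1], [1, 1,
    1, 1, 1], [1, 1, 1, 1, 1, 0, 0], [1, 1, 0, 1, 0, 1, 1], [1, 0, 1, 1, 0, 1, 0, 0, 0], [1, 1, 0, 1, 1, 0, 1, 0,
    0], [1, 1, 1, 1, 1, 0, 1, 0, 0, 0], [0, 1, 0, 1, 1, 1, 1, 0, 0, 0], [0, 1, 1, 1, 1, 1, 1, 0, 1, 1], [0, 1, 1,
    1, 0], [1, 1, 1, 1, 1, 1], [0, 1, 0, 1, 0, 1, 0], [0, 1, 0, 1, 1, 1, 1], [1, 0, 1, 1, 1, 0, 0, 0], [1, 0, 1,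
    0, 1, 1, 1, 0], [0, 1, 1, 1, 0, 1, 0, 1], [1, 1, 1, 0, 1, 0, 1, 0, 0], [1, 0, 1, 1, 0, 1, 1, 0, 0], [1, 0, 1,
    1, 1, 1, 1, 1, 0, 1], [1, 1, 0, 1, 0, 1, 0, 1], [1, 0, 1, 0, 1, 0, 1, 0, 0, 0], [0, 1, 1, 1, 1, 1, 1, 0, 1,
    0], [0, 1, 1, 1, 1, 1, 1, 0, 1, 0, 0], [1, 1, 1, 0]])
    (c₀ := [0, 1]) (by norm_num) (by ((try (delta Cfsg.Agent.H921.Spor.Wd.chkG Cfsg.Spor.coxLabel Cfsg.Spor.coxNodes Cfsg.Spor.coxRelators; rewrite [Cfsg.Agent.LsF.fe37945_12.2])); decide +kernel)))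

theorem He_five : Orb 5 24 Cfsg.Spor.He :=
  (wd.orb_gen (r := 5) (d := 2) (m := 24)
    (X := [[1, 0, 6, 3, 5, 2, 0, 1, 4, 3, 2, 3, 6, 5, 0, 1, 3, 2, 1, 6, 5, 2, 1, 0, 3, 2, 3, 1, 2, 1, 4, 5, 3, 6, 3, 2,
    3, 2, 6, 0, 3, 6, 5], [5, 2, 3, 2, 6, 3, 1, 5, 3, 2, 3, 2, 6, 2, 3, 1, 2, 4, 3, 2, 3, 4, 0, 3, 6, 1, 2, 3, 6,
    2, 1, 3, 1, 2, 3, 2, 6, 3, 2, 1, 6, 1, 3, 2, 1, 3, 1, 0, 1]])
    (G := [[1, 2, 6, 1, 3, 2, 3, 6, 4, 3, 1, 6, 3, 2, 1, 3, 0, 6, 4, 3, 4, 6], [6, 3, 2, 3, 2, 5, 2, 0, 3, 2, 4, 3, 5,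
    3, 6, 3, 2, 3, 2, 6, 0, 3, 6, 5, 1, 0, 1, 4, 2, 3, 2]])
    (B := [[[0, 1], [4, 4]], [[1, 3], [0, 4]]])
    (S := [[], [0], [1], [0, 0], [1, 0], [1, 0, 0], [0, 1, 0, 1], [0, 1, 0, 1, 0], [1, 0, 1, 0, 1], [0, 1, 0, 1, 0, 0],
    [1, 0, 1, 0, 1, 0], [0, 0, 1, 0, 0, 1], [1, 0, 1], [1, 0, 0, 1, 0, 0], [0, 1, 0, 0, 1, 0], [0, 0, 1, 0, 1,
    0], [0, 0, 1, 0, 0, 1, 0], [0, 0, 1, 0, 0, 1, 0, 0], [1, 0, 0, 1, 0, 0, 1, 0], [0, 1, 0, 0, 1, 0, 1, 0], [1,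
    0, 1, 0, 0, 1, 0, 1], [1, 0, 0, 1, 0, 0, 1, 0, 0], [0, 1, 0, 0, 1, 0, 1, 0, 0], [1, 0, 1, 0, 0, 1, 0, 1, 0],
    [1, 0, 1, 0, 0, 1, 0, 1, 0, 0], [0, 1, 0], [0, 0, 1], [0, 1, 0, 0], [0, 0, 1, 0], [1, 0, 1, 0], [1, 0, 0, 1],
    [1, 0, 1, 0, 0], [1, 0, 0, 1, 0]])
    (c₀ := [0, 1]) (by norm_num) (by ((try (delta Cfsg.Agent.H921.Spor.Wd.chkG Cfsg.Spor.coxLabel Cfsg.Spor.coxNodes Cfsg.Spor.coxRelators; rewrite [Cfsg.Agent.LsF.fe37945_12.2])); decide +kernel)))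

theorem He_three : Orb 3 8 Cfsg.Spor.He :=
  (wd.orb_gen (r := 3) (d := 2) (m := 8)
    (X := [[1, 0, 4, 6, 5, 1, 6, 2, 3, 2, 1, 2, 1, 5, 2, 3, 2, 3, 1, 2, 1, 3, 5, 0, 6, 5, 0, 3, 5, 6, 2, 3, 2, 4], [1,
    3, 4, 2, 3, 1, 0, 2, 5, 6, 3, 5, 2, 1, 0, 3, 2, 3, 4, 3, 0, 6, 3, 2, 3, 2, 1, 2, 3, 2, 1, 4, 0, 2, 3, 2, 3,
    6, 0, 3, 4]])
    (G := [[2, 3, 2, 6, 4, 3, 5, 1, 2, 6, 3, 2, 1, 6, 3, 0, 2, 0, 1, 4, 3, 2, 3, 1, 2, 1, 4, 6, 3, 0, 4, 5, 3, 6, 4, 2,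
    3, 2]])
    (B := [[[0, 2], [2, 1]]])
    (S := [[], [0], [0, 0], [0, 0, 0], [0, 0, 0, 0], [0, 0, 0, 0, 0], [0, 0, 0, 0, 0, 0], [0, 0, 0, 0, 0, 0, 0]])
    (c₀ := [0, 1]) (by norm_num) (by decide +kernel))

theorem He_two : Orb 2 15 Cfsg.Spor.He :=
  (wd.orb_gen (r := 2) (d := 5) (m := 15)
    (X := [[0, 3, 1, 0, 1], [4, 3, 2, 3, 6, 2, 1, 0, 3, 2, 3, 2, 3, 2, 4], [1, 4, 3, 2, 6, 2, 1, 0, 3, 2, 3, 0, 2, 3,
    2, 3, 6, 0, 3, 4], [4, 3, 2, 3, 6, 4, 3, 1, 6, 3, 2, 1, 3, 0, 1, 2, 3, 5, 0, 2, 3, 5, 3, 4, 1, 2, 6, 4, 3, 2,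
    5, 2, 1, 3, 4, 5, 0], [0, 4, 1, 3, 2, 3, 1, 6, 1, 4, 3, 2, 1, 6, 3, 2, 1, 3, 0, 6, 4, 3, 4, 6, 4, 1, 2, 3, 2,
    1, 2, 3, 2, 3, 6, 0, 3, 2, 3, 2]])
    (G := [[0, 2, 3, 5, 3, 4, 6, 3, 2, 5, 1, 0, 1, 4, 2, 3, 2], [2, 1, 3, 2, 6, 2, 1, 0, 3, 2, 3, 4, 3, 1, 6, 3, 2, 1,
    3, 0, 4, 1, 2, 3, 2, 1, 0]])
    (B := [[[1, 0, 0, 0, 0], [0, 0, 0, 0, 1], [0, 0, 1, 0, 0], [0, 0, 1, 1, 0], [0, 1, 0, 0, 0]], [[1, 0, 1, 0, 0], [0,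
    0, 0, 1, 1], [1, 0, 0, 1, 1], [0, 0, 1, 1, 0], [1, 1, 1, 1, 1]]])
    (S := [[], [1], [1, 1], [0, 1, 0], [1, 1, 1, 0], [0, 1, 0, 1], [0, 1, 1, 1], [1, 0, 1, 0, 1, 0], [1, 1, 1, 1, 1,
    0], [0, 1, 1, 1, 1], [0, 1, 1, 0, 1, 0, 1, 0], [0, 1, 0, 1, 0], [0, 1, 0, 1, 1, 1, 0], [1, 0, 1, 1, 1, 0, 1,
    0], [1, 0, 1, 1, 0], [1, 1, 0, 1, 1, 1, 0, 1, 0], [1, 1, 1, 1, 0], [1, 0, 1, 1, 1], [1, 1, 0, 1, 0, 1], [1,
    1, 1, 1, 0, 1, 0, 1]])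
    (c₀ := [0, 0, 0, 1, 0]) (by norm_num) (by ((try (delta Cfsg.Agent.H921.Spor.Wd.chkG Cfsg.Spor.coxLabel Cfsg.Spor.coxNodes Cfsg.Spor.coxRelators; rewrite [Cfsg.Agent.LsF.fe37945_12.2])); decide +kernel)))

end Cfsg.Agent.H921.Spor.He
end
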