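import Cfsg.Agent.H489.DegCo
import Cfsg.Agent.CoOneType.CoAp
import Cfsg.Agent.CoOneType.CoQZ
import Cfsg.Agent.H175.BdSp_m3
import Cfsg.Agent.J4.Rep112
import Cfsg.Agent.H806.LsFiTwo_m3
import Cfsg.Agent.H921.SporMore_m3
import Cfsg.Agent.S2042
import Cfsg.Agent.S2043
import Cfsg.Agent.S2044
import Cfsg.Agent.S2045
import Cfsg.Agent.S2055
import Cfsg.Agent.FastGrp
import Cfsg.Agent.Prune
set_option linter.all false

-- part: H921/SporMcL
section
set_option linter.all false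
open scoped Cfsg.Agent.FastGrp

/-!
# `3⁴ : A₆` in `McL`; `Co₁`, `Co₂`, `Co₃` have degree at least 20
-/

set_option autoImplicit false
set_option maxRecDepth 100000

universe u v

namespace Cfsg.Agent.H921.Spor.McL

open Subgroup Cfsg Cfsg.Agent.SporadicA Cfsg.Agent.SporadicStructure.Co0Matrix Cfsg.Agent.CoOneType.CoEval
open Cfsg.Agent.LThreeCo1.Ev Cfsg.Agent.H912.Bd Cfsg.Agent.H921.Spor Cfsg.Agent.H489.Deg.Co

/-- codes of the matrices: a basis of `3⁴` and two elements of its normaliser -/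
def nMcL3 : List ℕ := [
  0xabe2f7c5f18c6338c6318c6318bdf38be2f9c5ed8c62f8b6318c5b18be6f8bdb39b5f18c62f8c5b18c6318bdef8bdaf7c6718c5af8b6318c6318cdef8cdaf7c5f16c62f8c6318c6316be6f7c6718be337bdf19bdef9bdf37c6318be337c5ed8c62f8c6318b6316cdef8ce2f7b66d8b62f8c6318c6318bdef8be2f9c5f16b62f8c6318c62d8cdef7c5f18be339be717be737bdef7c6318be337c5f18b5af8c6316c6318be6f9c5f18be2f7bdf57bdef7bdef7c62d8be2f7b5f18c62f6c62d8c6318ce6f8ce337c5f18c62f8b62d8c62d8bdef7c6718be2f7cdf17bdf37ce6f7c6317c5f18be2f7cdf19ce6f7bdef9c6317c5f18ce2f7be717bdef7be739c6318be2f7c6718c62f8c5b18b62d8be6f8ce2f7c5f18c62f8c5b16c5b18cdef7c5f18ce2f9bdf17cdef9cdef7c6318be2f9c6718c62f8c62d6c6316bdef8be337c6716c62f6c6318c5b18bdef8ce2f9c5f18c5af6c6318b6318bdef9c5f18be2f7bded7bdef7bdef7c635,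
  0xb4212841d09421294210842508421284a5093a0e849d084a4e94a1273a5083a5094a0e84a50849ce74a0e94a5094216842507420e74210841d08420e84a5094a1284a50839d273a1273a5084a5094a0e839d0839d294a12949d083a5074a0e84a5084a5293a12749d09420e842507420eb4210841d08420e84a5074a1284a5083a4e94a0e939d0849d094a12849d084a5274a0e749d084a5073a1283a50849d294a0e74a509420e842507421674210841d08420e839d093a1284a50849d294a12939d084a5093a1283a5084a4e73a12949d0849d073a0e84a5083a5274a1294a5083a5093a12849d083a5293a0e94a50839d094a1283a5083a4e94a1274a509420e84250b420e74210841d08420e83a5074a12839d084a5274a1293a50849d074a12849d0849ce93a1294a509420e842507420e74210842d08420e74212842d094212942108425084212849d094a0e83a5084a5293a0e93a509420e842507420e74210841d084216,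
  0xa421084a1094212942109425284a148421083a109420e742149425283a90949d2741d2849d0849ce83a109424e939ce74252849d083a5284a10941ce8521084a109420e94290741d283a108421083a107420e952107525284a1093a52741ce84a5084a5283a10741ce94a4e7424e84a50839ce84a107424e8421084a10742927421074252a3a108521083a1074212742909424e84a1094a52941ce839d0839d284a10941ce8421484a907420e74210941d284a108421084a109421275210951ce83a10939d2941d283a5083a4e84a107424e8421084a107421294214741ce84a9084210a3a109521274210741d284a108429084a149420e742107424e84a1093a4e9424e839d084a4e83a109424e8429083a147421294210941d283a108421083a109428e94210941cea4a10949ce9425283a50849d283a10741ce8421483a9094212942107424e83a1084210a4a107520e942109424e83a10a421083a107420e74210741ce83a14,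
  0xb4212841d094212942108425084212849d094a0e83a5084a5293a0e93a5084a5093a1283a5084a4e73a12949d094216842507420e74210841d08420e84a5093a0e849d084a4e94a1273a50849d074a12849d0849ce93a1294a5083a5074a0e84a5084a5293a12749d09420e84250b420e74210841d08420e83a5074a12839d084a5274a1293a50849d073a0e84a5083a5274a1294a5083a5094a0e84a50849ce74a0e94a509420e842507421674210841d08420e84a5074a1284a5083a4e94a0e939d084a5073a1283a50849d294a0e74a5083a5093a12849d083a5293a0e94a50849d094a12849d084a5274a0e749d084a5094a0e839d0839d294a12949d09420e842507420e74210842d08420e839d093a1284a50849d294a12939d0839d094a1283a5083a4e94a1274a509420e842507420eb4210841d08420e74212842d09421294210842508421284a5094a1284a50839d273a1273a509420e842507420e74210841d084216,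
  0xabe318c5f18c6338be318bdf17c6338be2d8c5ed8c62f8be318cdf19b62f7c5ef9be2f9cdf17c5ef7c6338cdf18be318c6718c62f8bdb18cded7c5af8ce318c5f18c62f8bdb16be717b62f8cdb18c5f16c62f8be318bdf19c5af9c5ef7be2f7bdf57c5ef7c62f8bded8be318b5f18c5af8be318be6d9c62f8ce318b66d8b62f8be318bdf17c62f8be318c5f18b62f6cdb18bdf19c62f8ce316c5f18c5af6be318cdf17c62f8be316c6718c62f8be2d6bdf19c62f8be2d8c6716c62f6be318be717c62f7c6739ce2f7bdf17c66f7c62f8bdf18bdb18c5f18b62f8be2d8ce717c62f7c66f7be337bdf19c5ef9c6338bdf17c5f37be2f7ce717c5ef9c62f8be717c5ef7be339be717c6737c62f8bdf18bdb18c6718c5af8ce318bdf17b62f7c5ef7ce2f7bdf19c5f37c62f8ce718be318b5f16c62f8ce316cdf17c62f8be316c5ed8c62f8ce318be717c5af8ce2d8c5f18c62f8ce2d8bded7c62f9c5ef7be2f7bded7c5ef7c62f8bdf5,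
  0xabe318c6338bdf17c5f17c6318c6338ce318b5af8cded7c5f17c6318c62f7c66f7cdf19c62f8be2f8be6f7cdf17c5f37bdf17c6338be2f8cdef9cdf17c5ef9cdf17c62f8be338cdf37bdf18be318c62f6be6d7c66d7c6318c62f8be318b62f8bdf17c6719c6316c5af8ce2d6c62f6bdf17c5f19c6318c62f7c5ef7be719c62f8ce2f8bdf39bdf17c6737be717c62f8be338bdef7be718be318c5af8be717c5f19b5b18c62f8bdb16c62f8ce717c5f17c6316c62f8ce318c62f8bdf19c5ed7c5b16c62f8be316c5af8bdf19c6717c6318b62f8be2d8c62f8cdf17c6717c5ad8c62f8cdb18c62f8bdf17b6717b6318c62f8be318c62f8cdf17b5ed9c6318b62f8bdb18c62f8bded9c5f19c62d8c62f9c5ef7bdf57c62f8be2f8bdef7bded8be2d8b62f8be719b5f17c6318c62f8ce318c62f8be717c5f17c62d8b5af8be318c62f6cdf19c5f17b6318c5af7c5ef9bdf17c6338ce2f8be6f7be719c5ef7bded7c62f8be2f8bdef7bdf5]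

theorem ok3_0 : okN (nMcL3.getD 0 0) = true := by exact Cfsg.Agent.CoOneType.CoQ.okz_of (by decide +kernel)
theorem ok3_1 : okN (nMcL3.getD 1 0) = true := by exact Cfsg.Agent.CoOneType.CoQ.okz_of (by decide +kernel)
theorem ok3_2 : okN (nMcL3.getD 2 0) = true := by exact Cfsg.Agent.CoOneType.CoQ.okz_of (by decide +kernel)
theorem ok3_3 : okN (nMcL3.getD 3 0) = true := by exact Cfsg.Agent.CoOneType.CoQ.okz_of (by decide +kernel)
theorem ok3_4 : okN (nMcL3.getD 4 0) = true := by exact Cfsg.Agent.CoOneType.CoQ.okz_of (by decide +kernel)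
theorem ok3_5 : okN (nMcL3.getD 5 0) = true := by exact Cfsg.Agent.CoOneType.CoQ.okz_of (by decide +kernel)
theorem eq3 : nMcL3 = [nMcL3.getD 0 0, nMcL3.getD 1 0, nMcL3.getD 2 0, nMcL3.getD 3 0, nMcL3.getD 4 0, nMcL3.getD 5 0] := rfl
theorem ok3 : nMcL3.all okN = true := by
  rw [eq3]
  simp only [List.all_cons, List.all_nil, ok3_0, ok3_1, ok3_2, ok3_3, ok3_4, ok3_5, Bool.and_self]
theorem ne3 : nMcL3 ≠ [] := by decide +kernel
theorem fix3 : nMcL3.all (fun n => eqL (ap (dec n) lV) lV && eqL (ap (dec n) lU) lU) = true := by (rewrite [Cfsg.Agent.CoOneType.CoAp.ap_F]; decide +kernel)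

theorem mem3 (i : ℕ) : (el ok3 ne3 i).1 ∈ Spor.McL := by
  have h := List.all_eq_true.1 fix3 (nMcL3.getD i (nMcL3.head ne3)) (by
    by_cases hi : i < nMcL3.length
    · rw [List.getD_eq_getElem _ _ hi]
      exact List.getElem_mem hi
    · rw [List.getD_eq_default _ _ (by omega)]
      exact List.head_mem _)
  rw [Bool.and_eq_true] at h
  exact mem_McL (rep_el ok3 ne3 i) h.1 h.2

/-- the words -/
noncomputable def wd3 : Wd Spor.McL := wd ok3 ne3 Spor.McL mem3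

/-- the generators of `3⁴` -/
def X3 : List (List ℕ) := [[0], [1], [2], [3]]
/-- two elements of its normaliser -/
def G3 : List (List ℕ) := [[4], [5]]
/-- their matrices on `3⁴` -/
def B3 : List (List (List ℕ)) := [[[2, 1, 2, 1], [2, 0, 1, 0], [1, 2, 1, 0], [2, 1, 0, 0]], [[2, 1, 2, 0], [2, 0, 2, 0],
    [0, 0, 1, 0], [1, 1, 0, 1]]]
/-- words for the elements of the orbit -/
def S3 : List (List ℕ) := [[0], [], [1, 0, 1, 0, 0], [1, 0, 1, 0], [0, 1, 0, 1], [1, 1, 0, 1, 1], [0, 0, 1, 0, 1],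
    [0, 1, 0, 1, 1, 0],
    [0, 1, 1, 0, 1, 1], [1, 1, 0, 0, 0, 1, 0, 1, 0, 0], [0, 1, 1, 0, 0, 1, 0, 1, 0], [0, 0, 0, 1, 0, 1, 0, 1, 0,
    1, 0], [1, 1, 0, 1, 0, 0, 0, 1], [0, 1, 0, 1, 1, 0, 1, 0, 0, 0], [1, 0, 0, 0, 1, 0, 0, 0, 1, 0], [1, 1, 0, 1,
    1, 0, 0, 0, 1, 1, 0, 1], [1, 0, 0, 0, 1, 0, 1, 0, 1, 0], [1, 1, 0, 0, 0, 1, 1, 0], [1, 0, 0, 0, 1, 0, 1, 1,
    0, 1], [0, 0, 0, 1, 1, 0, 1, 1, 0, 1], [0, 0, 1, 0, 1, 1, 0, 1, 0], [1, 0, 0, 1, 1, 0, 1], [1, 0, 1, 0, 1, 0,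
    1, 0, 0, 1, 0], [0, 1, 0, 1, 1, 0, 1, 0, 1, 0, 0], [1, 0, 1, 0, 1, 0, 0], [0, 0, 1], [0, 1, 1, 0, 1]]

theorem p3_0 : wd3.eq (Wd.rep [0] 3) [] = true := by
  delta wd3; rewrite [wdQ_eq]; decide +kernel

theorem p3_1 : wd3.eq (Wd.rep [1] 3) [] = true := by
  delta wd3; rewrite [wdQ_eq]; decide +kernel

theorem p3_2 : wd3.eq (Wd.rep [2] 3) [] = true := by
  delta wd3; rewrite [wdQ_eq]; decide +kernel

theorem p3_3 : wd3.eq (Wd.rep [3] 3) [] = true := by
  delta wd3; rewrite [wdQ_eq]; decide +kernel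

theorem c3_00 : wd3.eq ([0] ++ [0]) ([0] ++ [0]) = true := by
  delta wd3; rewrite [wdQ_eq]; decide +kernel

theorem c3_01 : wd3.eq ([0] ++ [1]) ([1] ++ [0]) = true := by
  delta wd3; rewrite [wdQ_eq]; decide +kernel

theorem c3_02 : wd3.eq ([0] ++ [2]) ([2] ++ [0]) = true := by
  delta wd3; rewrite [wdQ_eq]; decide +kernel

theorem c3_03 : wd3.eq ([0] ++ [3]) ([3] ++ [0]) = true := by
  delta wd3; rewrite [wdQ_eq]; decide +kernel

theorem c3_10 : wd3.eq ([1] ++ [0]) ([0] ++ [1]) = true := by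
  delta wd3; rewrite [wdQ_eq]; decide +kernel

theorem c3_11 : wd3.eq ([1] ++ [1]) ([1] ++ [1]) = true := by
  delta wd3; rewrite [wdQ_eq]; decide +kernel

theorem c3_12 : wd3.eq ([1] ++ [2]) ([2] ++ [1]) = true := by
  delta wd3; rewrite [wdQ_eq]; decide +kernel

theorem c3_13 : wd3.eq ([1] ++ [3]) ([3] ++ [1]) = true := by
  delta wd3; rewrite [wdQ_eq]; decide +kernel

theorem c3_20 : wd3.eq ([2] ++ [0]) ([0] ++ [2]) = true := by
  delta wd3; rewrite [wdQ_eq]; decide +kernel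

theorem c3_21 : wd3.eq ([2] ++ [1]) ([1] ++ [2]) = true := by
  delta wd3; rewrite [wdQ_eq]; decide +kernel

theorem c3_22 : wd3.eq ([2] ++ [2]) ([2] ++ [2]) = true := by
  delta wd3; rewrite [wdQ_eq]; decide +kernel

theorem c3_23 : wd3.eq ([2] ++ [3]) ([3] ++ [2]) = true := by
  delta wd3; rewrite [wdQ_eq]; decide +kernel

theorem c3_30 : wd3.eq ([3] ++ [0]) ([0] ++ [3]) = true := by
  delta wd3; rewrite [wdQ_eq]; decide +kernel

theorem c3_31 : wd3.eq ([3] ++ [1]) ([1] ++ [3]) = true := by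
  delta wd3; rewrite [wdQ_eq]; decide +kernel

theorem c3_32 : wd3.eq ([3] ++ [2]) ([2] ++ [3]) = true := by
  delta wd3; rewrite [wdQ_eq]; decide +kernel

theorem c3_33 : wd3.eq ([3] ++ [3]) ([3] ++ [3]) = true := by
  delta wd3; rewrite [wdQ_eq]; decide +kernel

theorem n3 : wd3.ne (Wd.pvW X3 0 [0, 0, 0, 1]) = true := by
  delta wd3; rewrite [wdQ_ne]; decide +kernel

theorem g3_00 : wd3.eq (G3.getD 0 [] ++ X3.getD 0 []) (Wd.pvW X3 0 ((B3.getD 0 []).getD 0 []) ++ G3.getD 0 []) = true := by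
  delta wd3; rewrite [wdQ_eq]; decide +kernel

theorem g3_01 : wd3.eq (G3.getD 0 [] ++ X3.getD 1 []) (Wd.pvW X3 0 ((B3.getD 0 []).getD 1 []) ++ G3.getD 0 []) = true := by
  delta wd3; rewrite [wdQ_eq]; decide +kernel

theorem g3_02 : wd3.eq (G3.getD 0 [] ++ X3.getD 2 []) (Wd.pvW X3 0 ((B3.getD 0 []).getD 2 []) ++ G3.getD 0 []) = true := by
  delta wd3; rewrite [wdQ_eq]; decide +kernel

theorem g3_03 : wd3.eq (G3.getD 0 [] ++ X3.getD 3 []) (Wd.pvW X3 0 ((B3.getD 0 []).getD 3 []) ++ G3.getD 0 []) = true := by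
  delta wd3; rewrite [wdQ_eq]; decide +kernel

theorem g3_10 : wd3.eq (G3.getD 1 [] ++ X3.getD 0 []) (Wd.pvW X3 0 ((B3.getD 1 []).getD 0 []) ++ G3.getD 1 []) = true := by
  delta wd3; rewrite [wdQ_eq]; decide +kernel

theorem g3_11 : wd3.eq (G3.getD 1 [] ++ X3.getD 1 []) (Wd.pvW X3 0 ((B3.getD 1 []).getD 1 []) ++ G3.getD 1 []) = true := by
  delta wd3; rewrite [wdQ_eq]; decide +kernel

theorem g3_12 : wd3.eq (G3.getD 1 [] ++ X3.getD 2 []) (Wd.pvW X3 0 ((B3.getD 1 []).getD 2 []) ++ G3.getD 1 []) = true := by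
  delta wd3; rewrite [wdQ_eq]; decide +kernel

theorem g3_13 : wd3.eq (G3.getD 1 [] ++ X3.getD 3 []) (Wd.pvW X3 0 ((B3.getD 1 []).getD 3 []) ++ G3.getD 1 []) = true := by
  delta wd3; rewrite [wdQ_eq]; decide +kernel

private theorem _root_.Cfsg.Agent.KOecb4dac.e4.{ku, kv} {α : Type kv} {M : List α → Sort ku} (φ : ∀ l, M l) {z : M List.nil} {s : ∀ a l, M l → M (List.cons a l)} (h0 : φ List.nil = z) (hs : ∀ a l, φ (List.cons a l) = s a l (φ l)) (l : List α) : φ l = @List.rec α M z s l := List.rec h0 (fun a l ih => (hs a l).trans (congrArg (s a l) ih)) l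
private noncomputable def _root_.Cfsg.Agent.KOecb4dac.k5.{ku0} : type_of% @List.append.{ku0} := @(fun x0 x1 x2 => @List.rec.{(ku0+1), ku0} @x0 @(fun x3 => (@List.{ku0} @x0) → @List.{ku0} @x0) @(fun x3 => @x3) @(fun x3 x4 x5 x6 => @x3 :: (@x5 @x6)) @x1 @x2)
private theorem _root_.Cfsg.Agent.KOecb4dac.e5.{ku0} : @List.append.{ku0} = @_root_.Cfsg.Agent.KOecb4dac.k5.{ku0} := by delta _root_.Cfsg.Agent.KOecb4dac.k5; funext a0 a1 a2; refine (congrFun (_root_.Cfsg.Agent.KOecb4dac.e4 (fun a1 a2 => @List.append.{ku0} a0 a1 a2) ?_ (fun c0 c1 => ?_) a1) a2 :) <;> (rfl')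
private noncomputable def _root_.Cfsg.Agent.KOecb4dac.k6.{ku0, ku1} : type_of% @List.map.{ku0, ku1} := @(fun x0 x1 x2 x3 => @List.rec.{(ku1+1), ku0} @x0 @(fun x4 => @List.{ku1} @x1) [] @(fun x4 x5 x6 => (@x2 @x4) :: @x6) @x3)
private theorem _root_.Cfsg.Agent.KOecb4dac.e6.{ku0, ku1} : @List.map.{ku0, ku1} = @_root_.Cfsg.Agent.KOecb4dac.k6.{ku0, ku1} := by delta _root_.Cfsg.Agent.KOecb4dac.k6; funext a0 a1 a2 a3; refine (_root_.Cfsg.Agent.KOecb4dac.e4 (fun a3 => @List.map.{ku0, ku1} a0 a1 a2 a3) ?_ (fun c0 c1 => ?_) a3 :) <;> (rfl')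
private theorem _root_.Cfsg.Agent.KOecb4dac.e8.{ku} {M : Nat → Sort ku} (φ : ∀ n, M n) {z : M Nat.zero} {s : ∀ n, M n → M (Nat.succ n)} (h0 : φ Nat.zero = z) (hs : ∀ n, φ (Nat.succ n) = s n (φ n)) (n : Nat) : φ n = @Nat.rec M z s n := Nat.rec h0 (fun n ih => (hs n).trans (congrArg (s n) ih)) n
private noncomputable def _root_.Cfsg.Agent.KOecb4dac.k9 : type_of% @List.range.loop := @(fun x0 x1 => @Nat.rec.{1} @(fun x2 => (@List.{0} ℕ) → @List.{0} ℕ) @(fun x2 => @x2) @(fun x2 x3 x4 => @x3 (@x2 :: @x4)) @x0 @x1)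
private theorem _root_.Cfsg.Agent.KOecb4dac.e9 : @List.range.loop = @_root_.Cfsg.Agent.KOecb4dac.k9 := by delta _root_.Cfsg.Agent.KOecb4dac.k9; funext a0 a1; refine (congrFun (_root_.Cfsg.Agent.KOecb4dac.e8 (fun a0 a1 => @List.range.loop a0 a1) ?_ (fun c0 => ?_) a0) a1 :) <;> (rfl')
private noncomputable def _root_.Cfsg.Agent.KOecb4dac.k21.{ku0} : type_of% @List.all.{ku0} := @(fun x0 x1 x2 => @List.rec.{(ku0+1), ku0} @x0 @(fun x3 => (@x0 → @Bool) → @Bool) @(fun x3 => @Bool.true) @(fun x3 x4 x5 x6 => @Bool.rec.{1} @(fun x7 => @Bool) @Bool.false (@x5 @x6) (@x6 @x3)) @x1 @x2)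
private theorem _root_.Cfsg.Agent.KOecb4dac.e21.{ku0} : @List.all.{ku0} = @_root_.Cfsg.Agent.KOecb4dac.k21.{ku0} := by delta _root_.Cfsg.Agent.KOecb4dac.k21; funext a0 a1 a2; refine (congrFun (_root_.Cfsg.Agent.KOecb4dac.e4 (fun a1 a2 => @List.all.{ku0} a0 a1 a2) ?_ (fun c0 c1 => ?_) a1) a2 :) <;> (rfl')
private noncomputable def _root_.Cfsg.Agent.KOecb4dac.k29.{ku0} : type_of% @List.get?Internal.{ku0} := @(fun x0 x1 x2 => @List.rec.{(ku0+1), ku0} @x0 @(fun x3 => ℕ → @Option.{ku0} @x0) @(fun x3 => @Option.none.{ku0} _) @(fun x3 x4 x5 x6 => @Nat.rec.{(ku0+1)} @(fun x7 => @Option.{ku0} @x0) (@Option.some.{ku0} _ @x3) @(fun x7 x8 => @x5 @x7) @x6) @x1 @x2)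
private theorem _root_.Cfsg.Agent.KOecb4dac.e29.{ku0} : @List.get?Internal.{ku0} = @_root_.Cfsg.Agent.KOecb4dac.k29.{ku0} := by delta _root_.Cfsg.Agent.KOecb4dac.k29; funext a0 a1 a2; refine (congrFun (_root_.Cfsg.Agent.KOecb4dac.e4 (fun a1 a2 => @List.get?Internal.{ku0} a0 a1 a2) ?_ (fun c0 c1 => ?_) a1) a2 :) <;> [(funext b0; (rfl')); (funext b0; (cases b0 with | @zero  => (rfl') | @succ b0_0 => (rfl')))]
private noncomputable def _root_.Cfsg.Agent.KOecb4dac.k41.{ku0} : type_of% @List.replicate.{ku0} := @(fun x0 x1 x2 => @Nat.rec.{(ku0+1)} @(fun x3 => @x0 → @List.{ku0} @x0) @(fun x3 => []) @(fun x3 x4 x5 => @x5 :: (@x4 @x5)) @x1 @x2)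
private theorem _root_.Cfsg.Agent.KOecb4dac.e41.{ku0} : @List.replicate.{ku0} = @_root_.Cfsg.Agent.KOecb4dac.k41.{ku0} := by delta _root_.Cfsg.Agent.KOecb4dac.k41; funext a0 a1 a2; refine (congrFun (_root_.Cfsg.Agent.KOecb4dac.e8 (fun a1 a2 => @List.replicate.{ku0} a0 a1 a2) ?_ (fun c0 => ?_) a1) a2 :) <;> (rfl')
private noncomputable def _root_.Cfsg.Agent.KOecb4dac.k68.{ku0} : type_of% @List.flatten.{ku0} := @(fun x0 x1 => @List.rec.{(ku0+1), ku0} (@List.{ku0} @x0) @(fun x2 => @List.{ku0} @x0) [] @(fun x2 x3 x4 => @Cfsg.Agent.KOecb4dac.k5.{ku0} _ @x2 @x4) @x1)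
private theorem _root_.Cfsg.Agent.KOecb4dac.e68.{ku0} : @List.flatten.{ku0} = @_root_.Cfsg.Agent.KOecb4dac.k68.{ku0} := by delta _root_.Cfsg.Agent.KOecb4dac.k68; rewrite [← Cfsg.Agent.KOecb4dac.e5.{ku0}]; funext a0 a1; refine (_root_.Cfsg.Agent.KOecb4dac.e4 (fun a1 => @List.flatten.{ku0} a0 a1) ?_ (fun c0 c1 => ?_) a1 :) <;> (rfl')
private noncomputable def _root_.Cfsg.Agent.KOecb4dac.k69 : (by first | exact type_of% @Cfsg.Agent.H921.Spor.vecs | exact Unit : Sort _) := by first | (refine @Subtype.val _ (fun g => @Cfsg.Agent.H921.Spor.vecs = @g) (@Subtype.mk _ _ (@(fun x0 x1 => @Nat.rec.{1} @(fun x2 => @List.{0} (@List.{0} ℕ)) ([] :: []) @(fun x2 x3 => @Cfsg.Agent.KOecb4dac.k68.{0} _ (@Cfsg.Agent.KOecb4dac.k6.{0, 0} _ _ @(fun x4 => @Cfsg.Agent.KOecb4dac.k6.{0, 0} _ _ @(fun x5 => @x4 :: @x5) @x3) (@Cfsg.Agent.KOecb4dac.k9 @x0 []))) @x1)) ?_); rewrite [← Cfsg.Agent.KOecb4dac.e9, ← Cfsg.Agent.KOecb4dac.e6.{0, 0}, ← Cfsg.Agent.KOecb4dac.e68.{0}];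 funext a0 a1; refine (_root_.Cfsg.Agent.KOecb4dac.e8 (fun a1 => @Cfsg.Agent.H921.Spor.vecs a0 a1) ?_ (fun c0 => ?_) a1 :) <;> (rfl')) | exact @Cfsg.Agent.H921.Spor.vecs | exact ()
private theorem _root_.Cfsg.Agent.KOecb4dac.e69 : (by first | exact @Cfsg.Agent.H921.Spor.vecs = @_root_.Cfsg.Agent.KOecb4dac.k69 | exact True : Prop) := by first | (delta _root_.Cfsg.Agent.KOecb4dac.k69; exact @Subtype.property _ (fun g => @Cfsg.Agent.H921.Spor.vecs = @g) _) | rfl | trivial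
private noncomputable def _root_.Cfsg.Agent.KOecb4dac.k70 : type_of% @Bool.or := @(fun x0 x1 => @Bool.rec.{1} @(fun x2 => @Bool) @x1 @Bool.true @x0)
private theorem _root_.Cfsg.Agent.KOecb4dac.e70 : @Bool.or = @_root_.Cfsg.Agent.KOecb4dac.k70 := by delta _root_.Cfsg.Agent.KOecb4dac.k70; rfl'
private noncomputable def _root_.Cfsg.Agent.KOecb4dac.k72 : (by first | exact type_of% @Cfsg.Agent.H921.Spor.dot | exact Unit : Sort _) := by first | (refine @Subtype.val _ (fun g => @Cfsg.Agent.H921.Spor.dot = @g) (@Subtype.mk _ _ (@(fun x0 x1 => @List.rec.{1, 0} ℕ @(fun x2 => (@List.{0} ℕ) → ℕ) @(fun x2 => nat_lit 0) @(fun x2 x3 x4 x5 => @List.rec.{1, 0} ℕ @(fun x6 => ((@Nat.hasNotBit (nat_lit 2) (@List.ctorIdx.{0} _ @x6)) → ℕ) → ℕ) @(fun x6 => @x6 (@Nat.ne_of_beq_eq_false _ _ (@Eq.refl.{1} _ @Bool.false))) @(fun x6 x7 x8 x9 => @Nat.add (@Nat.mul @x2 @x6) (@x4 @x7)) @x5 @(fun x6 => nat_lit 0)) @x0 @x1)) ?_); funext a0 a1; refine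 (congrFun (_root_.Cfsg.Agent.KOecb4dac.e4 (fun a0 a1 => @Cfsg.Agent.H921.Spor.dot a0 a1) ?_ (fun c0 c1 => ?_) a0) a1 :) <;> [(funext b0; (rfl')); (funext b0; (cases b0 with | @nil  => (rfl') | @cons b0_0 b0_1 => (rfl')))]) | exact @Cfsg.Agent.H921.Spor.dot | exact ()
private theorem _root_.Cfsg.Agent.KOecb4dac.e72 : (by first | exact @Cfsg.Agent.H921.Spor.dot = @_root_.Cfsg.Agent.KOecb4dac.k72 | exact True : Prop) := by first | (delta _root_.Cfsg.Agent.KOecb4dac.k72; exact @Subtype.property _ (fun g => @Cfsg.Agent.H921.Spor.dot = @g) _) | rfl | trivial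
private noncomputable def _root_.Cfsg.Agent.KOecb4dac.oB.{ku} (α : Sort ku) (c : Bool) (f t : α) : α := @Decidable.rec (c = true) (fun _ => α) (fun _ => f) (fun _ => t) (instDecidableEqBool c true)
private noncomputable def _root_.Cfsg.Agent.KOecb4dac.k73.{ku} (α : Sort ku) (c : Bool) (f t : α) : α := @Bool.rec (fun _ => α) f t c
private theorem _root_.Cfsg.Agent.KOecb4dac.e73.{ku} : @_root_.Cfsg.Agent.KOecb4dac.oB.{ku} = @_root_.Cfsg.Agent.KOecb4dac.k73.{ku} := funext fun α => funext fun c => funext fun f => funext fun t => by cases c <;> rfl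
private noncomputable def _root_.Cfsg.Agent.KOecb4dac.k74.{ku0} : type_of% @List.any.{ku0} := @(fun x0 x1 x2 => @List.rec.{(ku0+1), ku0} @x0 @(fun x3 => (@x0 → @Bool) → @Bool) @(fun x3 => @Bool.false) @(fun x3 x4 x5 x6 => @Bool.rec.{1} @(fun x7 => @Bool) (@x5 @x6) @Bool.true (@x6 @x3)) @x1 @x2)
private theorem _root_.Cfsg.Agent.KOecb4dac.e74.{ku0} : @List.any.{ku0} = @_root_.Cfsg.Agent.KOecb4dac.k74.{ku0} := by delta _root_.Cfsg.Agent.KOecb4dac.k74; funext a0 a1 a2; refine (congrFun (_root_.Cfsg.Agent.KOecb4dac.e4 (fun a1 a2 => @List.any.{ku0} a0 a1 a2) ?_ (fun c0 c1 => ?_) a1) a2 :) <;> (rfl')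
private noncomputable def _root_.Cfsg.Agent.KOecb4dac.k75 : (by first | exact type_of% @Cfsg.Agent.H921.Spor.cnt | exact Unit : Sort _) := by first | (refine @Subtype.val _ (fun g => @Cfsg.Agent.H921.Spor.cnt = @g) (@Subtype.mk _ _ (@(fun x0 => @List.rec.{1, 0} ℕ @(fun x1 => ℕ) (nat_lit 0) @(fun x1 x2 x3 => @Cfsg.Agent.KOecb4dac.k73.{1} ℕ (@Cfsg.Agent.KOecb4dac.k74.{0} _ @x2 @(fun x4 => @Nat.beq @x1 @x4)) (@Nat.add @x3 (nat_lit 1)) @x3) @x0)) ?_); rewrite [← Cfsg.Agent.KOecb4dac.e74.{0}, ← Cfsg.Agent.KOecb4dac.e73.{1}]; funext a0; refine (_root_.Cfsg.Agent.KOecb4dac.e4 (fun a0 => @Cfsg.Agent.H921.Spor.cnt a0) ?_ (fun c0 c1 => ?_) a0 :) <;> (rfl')) | exact @Cfsg.Agent.H921.Spor.cnt | exact ()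
private theorem _root_.Cfsg.Agent.KOecb4dac.e75 : (by first | exact @Cfsg.Agent.H921.Spor.cnt = @_root_.Cfsg.Agent.KOecb4dac.k75 | exact True : Prop) := by first | (delta _root_.Cfsg.Agent.KOecb4dac.k75; exact @Subtype.property _ (fun g => @Cfsg.Agent.H921.Spor.cnt = @g) _) | rfl | trivial
private noncomputable def _root_.Cfsg.Agent.KOecb4dac.k76 : (by first | exact type_of% @Cfsg.Agent.H921.Spor.enc | exact Unit : Sort _) := by first | (refine @Subtype.val _ (fun g => @Cfsg.Agent.H921.Spor.enc = @g) (@Subtype.mk _ _ (@(fun x0 x1 x2 => @List.rec.{1, 0} (@List.{0} ℕ) @(fun x3 => ℕ) (nat_lit 0) @(fun x3 x4 x5 => @Nat.add (@Nat.mod (@Cfsg.Agent.KOecb4dac.k72 @x1 @x3) @x0) (@Nat.mul @x0 @x5)) @x2)) ?_); rewrite [← Cfsg.Agent.KOecb4dac.e72]; funext a0 a1 a2; refine (_root_.Cfsg.Agent.KOecb4dac.e4 (fun a2 => @Cfsg.Agent.H921.Spor.enc a0 a1 a2) ?_ (fun c0 c1 => ?_) a2 :) <;> ((try delta Cfsg.Agent.H921.Spor.enc Cfsg.Agent.H921.Spor.enc._f);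 (try generalize @Cfsg.Agent.H921.Spor.dot = g0); rfl')) | exact @Cfsg.Agent.H921.Spor.enc | exact ()
private theorem _root_.Cfsg.Agent.KOecb4dac.e76 : (by first | exact @Cfsg.Agent.H921.Spor.enc = @_root_.Cfsg.Agent.KOecb4dac.k76 | exact True : Prop) := by first | (delta _root_.Cfsg.Agent.KOecb4dac.k76; exact @Subtype.property _ (fun g => @Cfsg.Agent.H921.Spor.enc = @g) _) | rfl | trivial
private noncomputable def _root_.Cfsg.Agent.KOecb4dac.k77 : (by first | exact type_of% @Cfsg.Agent.H921.Spor.mone | exact Unit : Sort _) := by first | (refine @Subtype.val _ (fun g => @Cfsg.Agent.H921.Spor.mone = @g) (@Subtype.mk _ _ (@(fun x0 => @Cfsg.Agent.KOecb4dac.k6.{0, 0} _ _ @(fun x1 => @Cfsg.Agent.KOecb4dac.k6.{0, 0} _ _ @(fun x2 => @Bool.rec.{1} @(fun x3 => ℕ) (nat_lit 0) (nat_lit 1) (@Nat.beq @x1 @x2)) (@Cfsg.Agent.KOecb4dac.k9 @x0 [])) (@Cfsg.Agent.KOecb4dac.k9 @x0 []))) ?_); rewrite [← Cfsg.Agent.KOecb4dac.e9, ← Cfsg.Agent.KOecb4dac.e6.{0,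 0}]; rfl') | exact @Cfsg.Agent.H921.Spor.mone | exact ()
private theorem _root_.Cfsg.Agent.KOecb4dac.e77 : (by first | exact @Cfsg.Agent.H921.Spor.mone = @_root_.Cfsg.Agent.KOecb4dac.k77 | exact True : Prop) := by first | (delta _root_.Cfsg.Agent.KOecb4dac.k77; exact @Subtype.property _ (fun g => @Cfsg.Agent.H921.Spor.mone = @g) _) | rfl | trivial
private noncomputable def _root_.Cfsg.Agent.KOecb4dac.k79 : (by first | exact type_of% @Cfsg.Agent.H921.Spor.vadd | exact Unit : Sort _) := by first | (refine @Subtype.val _ (fun g => @Cfsg.Agent.H921.Spor.vadd = @g) (@Subtype.mk _ _ (@(fun x0 x1 x2 => @List.rec.{1, 0} ℕ @(fun x3 => (@List.{0} ℕ) → @List.{0} ℕ) @(fun x3 => []) @(fun x3 x4 x5 x6 => @List.rec.{1, 0} ℕ @(fun x7 => ((@Nat.hasNotBit (nat_lit 2) (@List.ctorIdx.{0} _ @x7)) → @List.{0} ℕ) → @List.{0} ℕ) @(fun x7 => @x7 (@Nat.ne_of_beq_eq_false _ _ (@Eq.refl.{1} _ @Bool.false))) @(fun x7 x8 x9 x10 => (@Nat.mod (@Nat.add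 @x3 @x7) @x0) :: (@x5 @x8)) @x6 @(fun x7 => [])) @x1 @x2)) ?_); funext a0 a1 a2; refine (congrFun (_root_.Cfsg.Agent.KOecb4dac.e4 (fun a1 a2 => @Cfsg.Agent.H921.Spor.vadd a0 a1 a2) ?_ (fun c0 c1 => ?_) a1) a2 :) <;> [(funext b0; (rfl')); (funext b0; (cases b0 with | @nil  => (rfl') | @cons b0_0 b0_1 => (rfl')))]) | exact @Cfsg.Agent.H921.Spor.vadd | exact ()
private theorem _root_.Cfsg.Agent.KOecb4dac.e79 : (by first | exact @Cfsg.Agent.H921.Spor.vadd = @_root_.Cfsg.Agent.KOecb4dac.k79 | exact True : Prop) := by first | (delta _root_.Cfsg.Agent.KOecb4dac.k79; exact @Subtype.property _ (fun g => @Cfsg.Agent.H921.Spor.vadd = @g) _) | rfl | trivial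
private noncomputable def _root_.Cfsg.Agent.KOecb4dac.k80 : (by first | exact type_of% @Cfsg.Agent.H921.Spor.vsmul | exact Unit : Sort _) := by first | (refine @Subtype.val _ (fun g => @Cfsg.Agent.H921.Spor.vsmul = @g) (@Subtype.mk _ _ (@(fun x0 x1 x2 => @Cfsg.Agent.KOecb4dac.k6.{0, 0} _ _ @(fun x3 => @Nat.mod (@Nat.mul @x1 @x3) @x0) @x2)) ?_); rewrite [← Cfsg.Agent.KOecb4dac.e6.{0, 0}]; rfl') | exact @Cfsg.Agent.H921.Spor.vsmul | exact ()
private theorem _root_.Cfsg.Agent.KOecb4dac.e80 : (by first | exact @Cfsg.Agent.H921.Spor.vsmul = @_root_.Cfsg.Agent.KOecb4dac.k80 | exact True : Prop) := by first | (delta _root_.Cfsg.Agent.KOecb4dac.k80; exact @Subtype.property _ (fun g => @Cfsg.Agent.H921.Spor.vsmul = @g) _) | rfl | trivial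
private noncomputable def _root_.Cfsg.Agent.KOecb4dac.k82 : (by first | exact type_of% @Cfsg.Agent.H921.Spor.lincomb | exact Unit : Sort _) := by first | (refine @Subtype.val _ (fun g => @Cfsg.Agent.H921.Spor.lincomb = @g) (@Subtype.mk _ _ (@(fun x0 x1 x2 x3 => @List.rec.{1, 0} ℕ @(fun x4 => (@List.{0} (@List.{0} ℕ)) → @List.{0} ℕ) @(fun x4 => @Cfsg.Agent.KOecb4dac.k41.{0} _ @x1 (nat_lit 0)) @(fun x4 x5 x6 x7 => @List.rec.{1, 0} (@List.{0} ℕ) @(fun x8 => ((@Nat.hasNotBit (nat_lit 2) (@List.ctorIdx.{0} _ @x8)) → @List.{0} ℕ) → @List.{0} ℕ) @(fun x8 => @x8 (@Nat.ne_of_beq_eq_false _ _ (@Eq.refl.{1} _ @Bool.false))) @(fun x8 x9 x10 x11 => @Cfsg.Agent.KOecb4dac.k79 @x0 (@Cfsg.Agent.KOecb4dac.k80 @x0 @x4 @x8) (@x6 @x9)) @x7 @(fun x8 => @Cfsg.Agent.KOecb4dac.k41.{0} _ @x1 (nat_lit 0))) @x2 @x3)) ?_); rewrite [← Cfsg.Agent.KOecb4dac.e80, ← Cfsg.Agent.KOecb4dac.e79, ← Cfsg.Agent.KOecb4dac.e41.{0}]; funext a0 a1 a2 a3; refine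 (congrFun (_root_.Cfsg.Agent.KOecb4dac.e4 (fun a2 a3 => @Cfsg.Agent.H921.Spor.lincomb a0 a1 a2 a3) ?_ (fun c0 c1 => ?_) a2) a3 :) <;> [(funext b0; ((try delta Cfsg.Agent.H921.Spor.lincomb Cfsg.Agent.H921.Spor.lincomb._f); (try generalize @Cfsg.Agent.H921.Spor.vadd = g0); (try generalize @Cfsg.Agent.H921.Spor.vsmul = g1); rfl')); (funext b0; (cases b0 with | @nil  => ((try delta Cfsg.Agent.H921.Spor.lincomb Cfsg.Agent.H921.Spor.lincomb._f); (try generalize @Cfsg.Agent.H921.Spor.vadd = g0); (try generalize @Cfsg.Agent.H921.Spor.vsmul = g1); rfl') | @cons b0_0 b0_1 => ((try delta Cfsg.Agent.H921.Spor.lincomb Cfsg.Agent.H921.Spor.lincomb._f); (try generalize @Cfsg.Agent.H921.Spor.vadd = g0); (try generalize @Cfsg.Agent.H921.Spor.vsmul = g1); rfl')))]) | exact @Cfsg.Agent.H921.Spor.lincomb | exact ()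
private theorem _root_.Cfsg.Agent.KOecb4dac.e82 : (by first | exact @Cfsg.Agent.H921.Spor.lincomb = @_root_.Cfsg.Agent.KOecb4dac.k82 | exact True : Prop) := by first | (delta _root_.Cfsg.Agent.KOecb4dac.k82; exact @Subtype.property _ (fun g => @Cfsg.Agent.H921.Spor.lincomb = @g) _) | rfl | trivial
private noncomputable def _root_.Cfsg.Agent.KOecb4dac.k83 : (by first | exact type_of% @Cfsg.Agent.H921.Spor.mword | exact Unit : Sort _) := by first | (refine @Subtype.val _ (fun g => @Cfsg.Agent.H921.Spor.mword = @g) (@Subtype.mk _ _ (@(fun x0 x1 x2 x3 => @List.rec.{1, 0} ℕ @(fun x4 => @List.{0} (@List.{0} ℕ)) (@Cfsg.Agent.KOecb4dac.k77 @x1) @(fun x4 x5 x6 => @Cfsg.Agent.KOecb4dac.k6.{0, 0} _ _ @(fun x7 => @Cfsg.Agent.KOecb4dac.k82 @x0 @x1 @x7 (@Option.rec.{1, 0} (@List.{0} (@List.{0} ℕ)) @(fun x8 => @List.{0} (@List.{0} ℕ)) [] @(fun x8 => @x8) (@Cfsg.Agent.KOecb4dac.k29.{0} _ @x2 @x4))) @x6) @x3)) ?_); rewrite [← Cfsg.Agent.KOecb4dac.e29.{0},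 ← Cfsg.Agent.KOecb4dac.e82, ← Cfsg.Agent.KOecb4dac.e6.{0, 0}, ← Cfsg.Agent.KOecb4dac.e77]; funext a0 a1 a2 a3; refine (_root_.Cfsg.Agent.KOecb4dac.e4 (fun a3 => @Cfsg.Agent.H921.Spor.mword a0 a1 a2 a3) ?_ (fun c0 c1 => ?_) a3 :) <;> ((try delta Cfsg.Agent.H921.Spor.mword Cfsg.Agent.H921.Spor.mword._f Cfsg.Agent.H921.Spor.mmul); (try generalize @Cfsg.Agent.H921.Spor.mone = g0); (try generalize @Cfsg.Agent.H921.Spor.lincomb = g1); rfl')) | exact @Cfsg.Agent.H921.Spor.mword | exact ()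
private theorem _root_.Cfsg.Agent.KOecb4dac.e83 : (by first | exact @Cfsg.Agent.H921.Spor.mword = @_root_.Cfsg.Agent.KOecb4dac.k83 | exact True : Prop) := by first | (delta _root_.Cfsg.Agent.KOecb4dac.k83; exact @Subtype.property _ (fun g => @Cfsg.Agent.H921.Spor.mword = @g) _) | rfl | trivial

theorem v3 : (vecs 3 4).all (fun χ => Nat.beq (dot χ [0, 0, 0, 1] % 3) 0 ||
    Nat.ble 20 (cnt (S3.map fun v => enc 3 χ (mword 3 4 B3 v)))) = true := by (first | (rewrite [Cfsg.Agent.KOecb4dac.e21.{0}, Cfsg.Agent.KOecb4dac.e69, Cfsg.Agent.KOecb4dac.e70, Cfsg.Agent.KOecb4dac.e72, Cfsg.Agent.KOecb4dac.e75, Cfsg.Agent.KOecb4dac.e6.{0, 0}, Cfsg.Agent.KOecb4dac.e76, Cfsg.Agent.KOecb4dac.e83]; decide +kernel) | decide +kernel)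

theorem s3 : (S3.all fun v => v.all fun k => Nat.blt k B3.length) = true := by decide +kernel

theorem b3 : (B3.all fun b => Nat.beq b.length 4 && b.all fun row => Nat.beq row.length 4) = true := by decide +kernel

/-- `3⁴ : A₆` -/
theorem McL_three : Orb 3 20 Spor.McL := by
  refine wd3.orb_gen (r := 3) (d := 4) (m := 20) (X := X3) (G := G3) (B := B3) (S := S3) (c₀ := [0, 0, 0, 1])
    (by norm_num) ?_
  unfold Wd.chkG chkG0
  have h1 : (X3.all fun P => wd3.eq (Wd.rep P 3) []) = true := by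
    simp only [X3, List.all_cons, List.all_nil, p3_0, p3_1, p3_2, p3_3, Bool.and_self]
  have h2 : (X3.all fun P => X3.all fun Q => wd3.eq (P ++ Q) (Q ++ P)) = true := by
    unfold X3
    simp only [List.all_cons, List.all_nil, c3_00, c3_01, c3_02, c3_03, c3_10, c3_11, c3_12, c3_13, c3_20, c3_21,
      c3_22, c3_23, c3_30, c3_31, c3_32, c3_33, Bool.and_self]
  have h3 : ((List.range B3.length).all fun k =>
      (List.range 4).all fun i => wd3.eq (G3.getD k [] ++ X3.getD i [])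
        (Wd.pvW X3 0 ((B3.getD k []).getD i []) ++ G3.getD k [])) = true := by
    have e1 : List.range B3.length = [0, 1] := rfl
    have e2 : List.range 4 = [0, 1, 2, 3] := rfl
    rw [e1, e2]
    simp only [List.all_cons, List.all_nil, g3_00, g3_01, g3_02, g3_03, g3_10, g3_11, g3_12, g3_13, Bool.and_self]
  have h0 : (Nat.beq X3.length 4 && Nat.blt 0 4) = true := rfl
  rw [h1, h2, h3, n3, v3, s3, b3, h0]
  rfl

/-! ### The Conway groups -/

theorem le_Co3 : Spor.McL ≤ Spor.Co3 := inf_le_left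
theorem le_Co2 : Spor.McL ≤ Spor.Co2 := le_inf (inf_le_left.trans inf_le_left) inf_le_right
theorem le_Co0 : Spor.McL ≤ Co0 := inf_le_left.trans inf_le_left

theorem exists_Co1 : ∃ f : Spor.McL →* Spor.Co1, Function.Injective f := by
  refine ⟨(QuotientGroup.mk' (Subgroup.center Co0)).comp (Subgroup.inclusion le_Co0), ?_⟩
  rw [injective_iff_map_eq_one]
  intro σ hσ
  have h1 : Subgroup.inclusion le_Co0 σ ∈ Subgroup.center Co0 := by
    rwa [MonoidHom.comp_apply, QuotientGroup.mk'_apply, QuotientGroup.eq_one_iff] at hσ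
  rcases Cfsg.Agent.SporadicA.Co0Basic.eq_one_or_neg_of_mem_center h1 with h2 | h2
  · exact Subgroup.inclusion_injective le_Co0 (by rw [h2, map_one])
  · exfalso
    have h3 : (σ : Equiv.Perm leechLattice) Spor.leechU = Spor.leechU := σ.2.2
    have h4 : ((Subgroup.inclusion le_Co0 σ : Co0) : Equiv.Perm leechLattice) Spor.leechU = - Spor.leechU := by
      rw [h2]; rfl
    have h5 : ((Subgroup.inclusion le_Co0 σ : Co0) : Equiv.Perm leechLattice) Spor.leechU = Spor.leechU := h3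
    rw [h5] at h4
    have h6 := congrFun (congrArg (Subtype.val : leechLattice → GolayPt → ℤ) h4) none
    have h7 : ((Spor.leechU : leechLattice) : GolayPt → ℤ) none = 4 := by
      change Spor.vecU none = 4
      decide
    have h8 : ((- Spor.leechU : leechLattice) : GolayPt → ℤ) none = -4 := by
      change - Spor.vecU none = -4
      decide
    rw [h7, h8] at h6
    omega

theorem Co3_three : Orb 3 20 Spor.Co3 := McL_three.of_inj _ (Subgroup.inclusion_injective le_Co3)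
theorem Co2_three : Orb 3 20 Spor.Co2 := McL_three.of_inj _ (Subgroup.inclusion_injective le_Co2)
theorem Co1_three : Orb 3 20 Spor.Co1 := by
  obtain ⟨f, hf⟩ := exists_Co1
  exact McL_three.of_inj f hf

section

variable {F : Type u} [Field F]

theorem bd_of_inj {r m : ℕ} {T : Type v} [Group T] {T' : Type*} [Group T']
    (h : Bd F r m T') (f : T' →* T) (hf : Function.Injective f) : Bd F r m T := fun n hn => h n (hn.sub f hf)

theorem Co3_five (h5 : (5 : F) ≠ 0) : Bd F 5 20 Spor.Co3 := bd_of_inj (mcl_five h5) _ (Subgroup.inclusion_injective le_Co3)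
theorem Co2_five (h5 : (5 : F) ≠ 0) : Bd F 5 20 Spor.Co2 := bd_of_inj (mcl_five h5) _ (Subgroup.inclusion_injective le_Co2)
theorem Co1_five (h5 : (5 : F) ≠ 0) : Bd F 5 20 Spor.Co1 := by
  obtain ⟨f, hf⟩ := exists_Co1
  exact bd_of_inj (mcl_five h5) f hf

end

end Cfsg.Agent.H921.Spor.McL

private theorem dce_02f8f9708280 : _root_.True := by
  try have : _root_.True := by simp only [_root_.Cfsg.Agent.H921.Spor.McL.X3.eq_1]
  exact _root_.True.intro
end

-- part: H921/SporJ4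
section
set_option linter.all false
open scoped Cfsg.Agent.FastGrp

/-!
# `J₄` contains `23 : 22`
-/

set_option autoImplicit false

namespace Cfsg.Agent.H921.Spor.J4

open Cfsg.Agent.Lib.F2MatGroup Cfsg.Agent.Lib Cfsg.Agent.J4.RepData Cfsg.Agent.J4.Rep112

/-- program: `q`, `q⁻¹`, `y t^q`, `z` (an involution of `2¹¹`), `v`, `p = x y` -/
def slp23 : List (List ℕ) := [
  [1, 0, 1, 0, 1, 0, 1, 0, 2, 0],
  [1, 2, 1, 3, 1, 3, 1, 3, 1, 3],
  [3, 0, 5, 1],
  [0, 0, 0],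
  [5, 4, 6, 4, 6, 4, 6, 4, 6, 4, 5, 4, 5, 4, 6, 4, 5, 4, 6, 4, 6, 4, 0, 4, 5, 4, 5, 4, 6, 4, 5, 4, 6, 4, 6, 4, 6, 4,
    6, 4, 6, 4, 6, 4, 6, 4, 5, 4, 6, 4, 5, 4, 6, 4, 6, 4, 6, 4, 6, 4, 5, 4, 6, 4, 5, 4, 7, 5, 7, 6, 4, 5, 7, 6, 7, 6,
    7, 5, 4, 7, 6, 7, 6, 7, 4, 5, 7, 5, 7],
  [5, 6]]

theorem check23 : check 112 codes slp23 [(List.replicate 23 0, []), ([1, 0], List.replicate 19 0 ++ [1])]
    [([0], [])] = true := by decide +kernel

theorem map_evG {G H : Type*} [Group G] [Group H] (f : G →* H) (L : List G) (w : List ℕ) :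
    f (evG L w) = evG (L.map f) w := by
  induction w with
  | nil => rw [evG_nil, evG_nil, map_one]
  | cons i w ih =>
    rw [evG_cons, evG_cons, map_mul, ih]
    congr 1
    unfold getG
    rw [← map_one f, List.getD_map]

theorem map_runG {G H : Type*} [Group G] [Group H] (f : G →* H) (ws : List (List ℕ)) :
    ∀ L : List G, (runG ws L).map f = runG ws (L.map f) := by
  induction ws with
  | nil => intro L; rfl
  | cons w ws ih => intro L; rw [runG_cons, runG_cons, ih, List.map_cons, map_evG]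

theorem evG_replicate {G : Type*} [Group G] (L : List G) (i k : ℕ) :
    evG L (List.replicate k i) = getG L i ^ k := by
  induction k with
  | zero => rw [List.replicate_zero, evG_nil, pow_zero]
  | succ k ih => rw [List.replicate_succ, evG_cons, ih, pow_succ']

theorem evG_append {G : Type*} [Group G] (L : List G) (a b : List ℕ) :
    evG L (a ++ b) = evG L a * evG L b := by
  induction a with
  | nil => rw [List.nil_append, evG_nil, one_mul]
  | cons i a ih => rw [List.cons_append, evG_cons, evG_cons, ih, mul_assoc]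

theorem rho_injective (hs : IsSimpleGroup Cfsg.Spor.J4) : Function.Injective rho := by
  rw [← MonoidHom.ker_eq_bot_iff]
  rcases (MonoidHom.normal_ker rho).eq_bot_or_eq_top with h | h
  · exact h
  · exfalso
    obtain ⟨-, h2⟩ := check_sound (by norm_num) codes_gens check23
    have h3 := h2 ([0], []) (by simp)
    apply h3
    rw [← map_runG, ← map_evG, ← map_evG]
    have h4 : ∀ g, rho g = 1 := fun g => by
      have : g ∈ rho.ker := by rw [h]; trivial
      exact this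
    rw [h4, h4]

theorem J4_twentythree' (hs : IsSimpleGroup Cfsg.Spor.J4) : Conf 23 22 Cfsg.Spor.J4 := by
  have hinj := rho_injective hs
  obtain ⟨h1, h2⟩ := check_sound (by norm_num) codes_gens check23
  have e1 := h1 (List.replicate 23 0, []) (by simp)
  have e2 := h1 ([1, 0], List.replicate 19 0 ++ [1]) (by simp)
  have e3 := h2 ([0], []) (by simp)
  rw [← map_runG, ← map_evG, ← map_evG] at e1 e2
  replace e1 := hinj e1
  replace e2 := hinj e2
  have e4 : evG (runG slp23 gens) [0] ≠ evG (runG slp23 gens) [] := by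
    intro h
    apply e3
    rw [← map_runG, ← map_evG, ← map_evG]
    exact congrArg rho h
  simp only [evG_append, evG_replicate, evG_cons, evG_nil, mul_one] at e1 e2 e4
  refine Conf.of_prime (by norm_num) e1 e4 (y := getG (runG slp23 gens) 1) (k := 19) ?_ 22 (by decide)
  rw [e2]
  group

end Cfsg.Agent.H921.Spor.J4
end

-- part: H921/SporLe
section
set_option linter.all false

/-!
# `Co₁`, `Co₂`, `Co₃`, `J₄`, `Fi₂₄'`: every projective representation of a cover has degree at least 15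
(every characteristic, every cover)
-/

set_option autoImplicit false

universe u v

namespace Cfsg.Agent.H921.Spor.Le

open Cfsg Cfsg.Agent.H912.Bd Cfsg.Agent.H921.Spor Cfsg.Agent.H915.LD Cfsg.Agent.H489.Deg
open Matrix (GeneralLinearGroup)

variable {p : ℕ} (hp : p.Prime) {F : Type u} [Field F] [Finite F] [CharP F p] {n : ℕ}
  {P : Subgroup (GL (Fin n) F)} (hC : Core P)

include hp hC

/-- **`Co₃`: degree at least 20.** -/
theorem co3_le (e : Soc P ≃* Cfsg.Spor.Co3) : 20 ≤ n := by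
  by_cases h3 : p = 3
  · exact le_of_bd hC e Cfsg.Agent.S2045.result (r := 5) (by norm_num)
      (McL.Co3_five (F := F) (by exact_mod_cast cast_ne (F := F) hp (by norm_num : (5 : ℕ).Prime) (by omega)))
  · exact le_of_bd hC e Cfsg.Agent.S2045.result (r := 3) (by norm_num)
      (McL.Co3_three.bd (F := F) (by norm_num) (cast_ne (F := F) hp Nat.prime_three h3))

/-- **`Co₂`: degree at least 20.** -/
theorem co2_le (e : Soc P ≃* Cfsg.Spor.Co2) : 20 ≤ n := by
  by_cases h3 : p = 3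
  · exact le_of_bd hC e Cfsg.Agent.S2044.result (r := 5) (by norm_num)
      (McL.Co2_five (F := F) (by exact_mod_cast cast_ne (F := F) hp (by norm_num : (5 : ℕ).Prime) (by omega)))
  · exact le_of_bd hC e Cfsg.Agent.S2044.result (r := 3) (by norm_num)
      (McL.Co2_three.bd (F := F) (by norm_num) (cast_ne (F := F) hp Nat.prime_three h3))

/-- **`Co₁`: degree at least 20.** -/
theorem co1_le (e : Soc P ≃* Cfsg.Spor.Co1) : 20 ≤ n := by
  by_cases h3 : p = 3
  · exact le_of_bd hC e Cfsg.Agent.S2043.result (r := 5) (by norm_num)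
      (McL.Co1_five (F := F) (by exact_mod_cast cast_ne (F := F) hp (by norm_num : (5 : ℕ).Prime) (by omega)))
  · exact le_of_bd hC e Cfsg.Agent.S2043.result (r := 3) (by norm_num)
      (McL.Co1_three.bd (F := F) (by norm_num) (cast_ne (F := F) hp Nat.prime_three h3))

/-- **`J₄`: degree at least 15.** -/
theorem j4_le (e : Soc P ≃* Cfsg.Spor.J4) : 15 ≤ n := by
  have hs : IsSimpleGroup Cfsg.Spor.J4 := (MulEquiv.isSimpleGroup_congr e).1 hC.simple
  by_cases h3 : p = 23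
  · exact le_of_bd hC e Cfsg.Agent.S2042.result (r := 2) (by norm_num)
      (J4.J4_two.bd (F := F) (by norm_num) (cast_ne (F := F) hp Nat.prime_two (by omega)))
  · have h := le_of_bd hC e Cfsg.Agent.S2042.result (r := 23) (by norm_num)
      ((J4.J4_twentythree' hs).bd (F := F) (by norm_num) (cast_ne (F := F) hp (by norm_num) h3))
    omega

/-- **`Fi₂₄'`: degree at least 24.** -/
theorem fi24_le (e : Soc P ≃* Cfsg.Spor.Fi24') : 24 ≤ n := by
  by_cases h7 : p = 7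
  · exact le_of_bd hC e Cfsg.Agent.S2055.result (r := 5) (by norm_num)
      (Fi24.Fi24_five.bd (F := F) (by norm_num) (cast_ne (F := F) hp (by norm_num) (by omega)))
  · have h := le_of_bd hC e Cfsg.Agent.S2055.result (r := 7) (by norm_num)
      (Fi24.Fi24_seven.bd (F := F) (by norm_num) (cast_ne (F := F) hp (by norm_num) h7))
    omega

end Cfsg.Agent.H921.Spor.Le
end
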