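import Cfsg.Agent.H175.BdSp_m3
import Cfsg.Agent.OddHalf.MM.Main_m3
import Cfsg.Agent.Prune
set_option linter.all false
open scoped Cfsg.Agent.FastGrp

/-!
# The sporadic Suzuki group: configurations
-/

set_option autoImplicit false
set_option maxRecDepth 100000
set_option Elab.async false

namespace Cfsg.Agent.PNR.SporSuz

open Cfsg.Agent.Lib.PermNet

/-- two copies of a network -/
private noncomputable def dn (N : ℕ) (L : Net) : Net :=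
  Net.rec (motive := fun _ => Net) .nil (fun M d _ ih => .cons (Nat.lor M (Nat.shiftLeft M N)) d ih) L

private theorem tau_def (M d p : ℕ) :
    tau M d p = if M.testBit p then p + d else if d ≤ p ∧ M.testBit (p - d) then p - d else p := rfl

private theorem dn_spec {N : ℕ} {L : Net} (h : L.ok N = true) :
    (dn N L).ok (2 * N) = true ∧ ∀ q, (dn N L).perm q = if q < N then L.perm q else N + L.perm (q - N) := by
  induction L with
  | nil =>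
    refine ⟨rfl, fun q => ?_⟩
    show q = if q < N then q else N + (q - N)
    split <;> omega
  | cons M d L ih =>
    obtain ⟨h1, h2, h3⟩ := Net.ok_cons h
    obtain ⟨i1, i2⟩ := ih h3
    have a1 := testBit_and_shift h1
    have a2 : ∀ p, M.testBit p = true → p + d < N := fun p => lt_of_testBit h2
    obtain ⟨K, hK⟩ : ∃ K, K = M ||| M <<< N := ⟨_, rfl⟩
    have b : ∀ q, K.testBit q = true ↔ M.testBit q = true ∨ N ≤ q ∧ M.testBit (q - N) = true := fun q => by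
      rw [hK, Nat.testBit_or, Nat.testBit_shiftLeft, Bool.or_eq_true, Bool.and_eq_true, decide_eq_true_eq]
    have c1 : K &&& (K >>> d) = 0 := by
      refine Nat.eq_of_testBit_eq fun q => ?_
      rw [Nat.testBit_and, Nat.testBit_shiftRight, Nat.zero_testBit, ← Bool.not_eq_true, Bool.and_eq_true, b, b]
      rintro ⟨u | ⟨u, v⟩, x | ⟨x, y⟩⟩
      · rw [Nat.add_comm, a1 q u] at x; cases x
      · have := a2 q u; omega
      · have := a2 _ x; omega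
      · rw [show d + q - N = q - N + d by omega, a1 _ v] at y; cases y
    have c2 : K >>> (2 * N - d) = 0 := by
      refine Nat.eq_of_testBit_eq fun q => ?_
      rw [Nat.testBit_shiftRight, Nat.zero_testBit, ← Bool.not_eq_true, b]
      rintro (u | ⟨u, v⟩)
      · have := a2 _ u; omega
      · have := a2 _ v; omega
    have t1 : ∀ q < N, tau K d q = tau M d q := fun q hq => by
      have e1 : K.testBit q = true ↔ M.testBit q = true := by rw [b]; exact or_iff_left fun x => by omega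
      have e2 : K.testBit (q - d) = true ↔ M.testBit (q - d) = true := by rw [b]; exact or_iff_left fun x => by omega
      simp only [tau_def, e1, e2]
    have t2 : ∀ p, tau K d (N + p) = N + tau M d p := fun p => by
      have e1 : K.testBit (N + p) = true ↔ M.testBit p = true := by
        rw [b, Nat.add_sub_cancel_left]
        exact ⟨fun x => x.elim (fun y => by have := a2 _ y; omega) And.right, fun x => Or.inr ⟨by omega, x⟩⟩
      have e2 : (d ≤ N + p ∧ K.testBit (N + p - d) = true) ↔ (d ≤ p ∧ M.testBit (p - d) = true) := by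
        rw [b]
        constructor
        · rintro ⟨x, y | ⟨y, z⟩⟩
          · have := a2 _ y; omega
          · exact ⟨by omega, by rwa [show N + p - d - N = p - d by omega] at z⟩
        · rintro ⟨x, y⟩
          exact ⟨by omega, Or.inr ⟨by omega, by rwa [show N + p - d - N = p - d by omega]⟩⟩
      simp only [tau_def, e1, e2]
      split_ifs <;> omega
    have e : dn N (.cons M d L) = .cons K d (dn N L) := by rw [hK]; rfl
    rw [e]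
    refine ⟨?_, fun q => ?_⟩
    · show and (and (Nat.beq (K &&& (K >>> d)) 0) (Nat.beq (K >>> (2 * N - d)) 0)) ((dn N L).ok (2 * N)) = true
      rw [c1, c2, i1]; rfl
    · rw [Net.perm_cons, Net.perm_cons, Equiv.Perm.mul_apply, Equiv.Perm.mul_apply, Equiv.Perm.mul_apply,
        stagePerm_apply c1, stagePerm_apply h1, stagePerm_apply h1, i2]
      split
      · next hq => exact t1 _ (perm_lt h3 hq)
      · exact t2 _

/-- `2 ^ t` copies of a network -/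
private noncomputable def dnn (k : ℕ) (L : Net) (t : ℕ) : Net :=
  Nat.rec (motive := fun _ => Net) L (fun i ih => dn (Nat.pow 2 (Nat.add k i)) ih) t

private theorem dnn_spec {k : ℕ} {L : Net} (h : L.ok (2 ^ k) = true) (t : ℕ) :
    (dnn k L t).ok (2 ^ k * 2 ^ t) = true ∧
    ∀ j < 2 ^ t, ∀ q < 2 ^ k, (dnn k L t).perm (2 ^ k * j + q) = 2 ^ k * j + L.perm q := by
  induction t with
  | zero =>
    exact ⟨by rwa [pow_zero, Nat.mul_one], fun j hj q _ => by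
      rw [show j = 0 by omega, Nat.mul_zero, Nat.zero_add, Nat.zero_add]; rfl⟩
  | succ t ih =>
    obtain ⟨a1, a2⟩ := dn_spec ih.1
    have e : dnn k L (t + 1) = dn (2 ^ k * 2 ^ t) (dnn k L t) := by rw [← pow_add]; rfl
    rw [e, pow_succ]
    generalize 2 ^ t = m at *
    generalize 2 ^ k = N at *
    refine ⟨by rwa [show N * (m * 2) = 2 * (N * m) by ring], fun j hj q hq => ?_⟩
    rw [a2]
    split
    · next h1 =>
      refine ih.2 j ?_ q hq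
      by_contra h2
      have := Nat.mul_le_mul_left N (not_lt.1 h2)
      omega
    · next h1 =>
      have h2 : m ≤ j := by
        by_contra h2
        have := Nat.mul_le_mul_left N (show j + 1 ≤ m by omega)
        rw [Nat.mul_succ] at this
        omega
      obtain ⟨i, rfl⟩ := Nat.exists_eq_add_of_le h2
      rw [Nat.mul_add, Nat.add_assoc, Nat.add_sub_cancel_left, ih.2 _ (by omega) q hq, Nat.add_assoc]

/-- copies of the networks of a word -/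
private noncomputable def qw (k t : ℕ) (w : List Net) : List Net :=
  List.rec (motive := fun _ => List Net) [] (fun L _ ih => dnn k L t :: ih) w

private theorem qw_spec {k : ℕ} (t : ℕ) {w : List Net} (hw : WOk (2 ^ k) w) : WOk (2 ^ k * 2 ^ t) (qw k t w) ∧
    ∀ j < 2 ^ t, ∀ p < 2 ^ k, wperm (qw k t w) (2 ^ k * j + p) = 2 ^ k * j + wperm w p := by
  induction w with
  | nil => exact ⟨WOk.nil _, fun j _ p _ => rfl⟩
  | cons L w ih =>
    have hw' : WOk (2 ^ k) w := fun K hK => hw K (List.mem_cons_of_mem _ hK)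
    obtain ⟨a1, a2⟩ := dnn_spec (hw L List.mem_cons_self) t
    refine ⟨WOk.cons a1 (ih hw').1, fun j hj p hp => ?_⟩
    show wperm (dnn k L t :: qw k t w) _ = _
    rw [wperm_cons, Equiv.Perm.mul_apply, (ih hw').2 j hj p hp, wperm_cons, Equiv.Perm.mul_apply,
      a2 j hj _ (wperm_lt hw' hp)]

private theorem tb_qw {k : ℕ} (t : ℕ) {w : List Net} (hw : WOk (2 ^ k) w) (P : ℕ) {j p : ℕ} (hj : j < 2 ^ t)
    (hp : p < 2 ^ k) : (appWord (qw k t w) P).testBit (2 ^ k * j + p) = P.testBit (2 ^ k * j + wperm w p) := by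
  rw [testBit_appWord (qw_spec t hw).1, (qw_spec t hw).2 j hj p hp]

/-- the sets `f 0, …, f (n - 1)` side by side -/
private noncomputable def sbs (k : ℕ) (f : ℕ → ℕ) (n : ℕ) : ℕ :=
  Nat.rec (motive := fun _ => ℕ) 0 (fun j ih => Nat.lor ih (Nat.shiftLeft (f j) (Nat.shiftLeft j k))) n

private theorem sbs_spec {k : ℕ} {f : ℕ → ℕ} (n : ℕ) (hf : ∀ j < n, ∀ x, 2 ^ k ≤ x → (f j).testBit x = false) :
    (∀ x, 2 ^ k * n ≤ x → (sbs k f n).testBit x = false) ∧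
    ∀ j < n, ∀ q < 2 ^ k, (sbs k f n).testBit (2 ^ k * j + q) = (f j).testBit q := by
  induction n with
  | zero => exact ⟨fun x _ => Nat.zero_testBit x, fun j hj => by omega⟩
  | succ n ih =>
    obtain ⟨i1, i2⟩ := ih fun j hj => hf j (by omega)
    have e : ∀ x, (sbs k f (n + 1)).testBit x = ((sbs k f n).testBit x ||
        (decide (x ≥ 2 ^ k * n) && (f n).testBit (x - 2 ^ k * n))) := fun x => by
      rw [← Nat.testBit_shiftLeft, ← Nat.testBit_or, Nat.mul_comm, ← Nat.shiftLeft_eq]; rfl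
    generalize 2 ^ k = N at *
    refine ⟨fun x hx => ?_, fun j hj q hq => ?_⟩
    · rw [Nat.mul_succ] at hx
      rw [e, i1 x (by omega), hf n (by omega) _ (by omega), Bool.and_false]; rfl
    · rw [e]
      rcases Nat.lt_succ_iff_lt_or_eq.1 hj with h | rfl
      · have := Nat.mul_le_mul_left N (show j + 1 ≤ n from h)
        rw [Nat.mul_succ] at this
        rw [i2 j h q hq, decide_eq_false (by omega), Bool.false_and, Bool.or_false]
      · rw [i1 _ (by omega), decide_eq_true (by omega), Nat.add_sub_cancel_left, Bool.true_and, Bool.false_or]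

private theorem tb_pls {k j q : ℕ} (hj : j < k) (hq : q < 2 ^ k) :
    (sbs k (Cfsg.Agent.Lib.PermNet.plane k) k).testBit (2 ^ k * j + q) = (Cfsg.Agent.Lib.PermNet.plane k j).testBit q :=
  (sbs_spec k fun j hj x hx => testBit_plane_of_le k j x hx hj).2 j hj q hq

/-- both words act in the same way, all planes at once (`k ≤ 2 ^ t`) -/
private noncomputable def eqF (k t : ℕ) (w w' : List Net) : Bool :=
  Nat.beq (appWord (qw k t w) (sbs k (Cfsg.Agent.Lib.PermNet.plane k) k))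
    (appWord (qw k t w') (sbs k (Cfsg.Agent.Lib.PermNet.plane k) k))

private theorem wperm_eqF {k : ℕ} (t : ℕ) {w w' : List Net} (hw : WOk (2 ^ k) w) (hw' : WOk (2 ^ k) w')
    (ht : k ≤ 2 ^ t) (h : eqF k t w w' = true) : wperm w = wperm w' := by
  have h0 := Nat.eq_of_beq_eq_true h
  ext p
  by_cases hp : p < 2 ^ k
  · have h1 := wperm_lt hw hp
    have h2 := wperm_lt hw' hp
    refine Nat.eq_of_testBit_eq fun b => ?_
    by_cases hb : b < k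
    · rw [← testBit_plane k b _ h1 hb, ← testBit_plane k b _ h2 hb, ← tb_pls hb h1, ← tb_pls hb h2,
        ← tb_qw t hw _ (hb.trans_le ht) hp, ← tb_qw t hw' _ (hb.trans_le ht) hp, h0]
    · have hk : 2 ^ k ≤ 2 ^ b := Nat.pow_le_pow_right (by norm_num) (by omega)
      rw [Nat.testBit_lt_two_pow (lt_of_lt_of_le h1 hk), Nat.testBit_lt_two_pow (lt_of_lt_of_le h2 hk)]
  · rw [wperm_eq_of_le hw (by omega), wperm_eq_of_le hw' (by omega)]

private theorem checkEq_of_eq {k : ℕ} {w w' : List Net} (hw : WOk (2 ^ k) w) (hw' : WOk (2 ^ k) w')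
    (h : wperm w = wperm w') : checkEq k w w' = true := by
  have e : ∀ P, appWord w P = appWord w' P := fun P => Nat.eq_of_testBit_eq fun p => by
    rw [testBit_appWord hw, testBit_appWord hw', h]
  have : ∀ m, checkPlanes k w w' m = true := fun m => by
    induction m with
    | zero => rfl
    | succ m ih =>
      show and (seqB (appWord w _) fun x => seqB (appWord w' _) fun y => Nat.beq x y) (checkPlanes k w w' m) = true
      rw [seqB_eq, seqB_eq, e, Nat.beq_refl, ih]; rfl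
  exact this k

/-- use : `checkEq_of 4 hw hw' (by norm_num) (by decide +kernel)` -/
private theorem checkEq_of {k : ℕ} (t : ℕ) {w w' : List Net} (hw : WOk (2 ^ k) w) (hw' : WOk (2 ^ k) w')
    (ht : k ≤ 2 ^ t) (h : eqF k t w w' = true) : checkEq k w w' = true :=
  checkEq_of_eq hw hw' (wperm_eqF t hw hw' ht h)

end Cfsg.Agent.PNR.SporSuz

namespace Cfsg.Agent.H921.Spor.Suz

open Cfsg.Agent.OddHalf.Table

/-- the words of `SuzRep` -/
noncomputable def wd : Wd Cfsg.Spor.Suz where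
  W := SuzRep.Wd
  nil := SuzRep.Wd_nil
  app := SuzRep.Wd_append
  eq := fun u v => Cfsg.Agent.Lib.PermNet.checkEq 11 (u.map SuzRep.lnet) (v.map SuzRep.lnet)
  eq_sound := SuzRep.eqw
  ne := fun u => (List.range 8).any fun i => !(Nat.beq (SuzRep.ev u i) (SuzRep.ev [] i))
  ne_sound := by
    intro u h
    rw [List.any_eq_true] at h
    obtain ⟨i, _, h⟩ := h
    rw [← SuzRep.Wd_nil]
    exact SuzRep.ne_of_ev (p := i) (by simpa using h)

open Cfsg.Agent.PNR.SporSuz in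
/-- the same words, all bit planes in one run -/
private noncomputable def wdF : Wd Cfsg.Spor.Suz where
  W := SuzRep.Wd
  nil := SuzRep.Wd_nil
  app := SuzRep.Wd_append
  eq := fun u v => eqF 11 4 (u.map SuzRep.lnet) (v.map SuzRep.lnet)
  eq_sound := fun {u v} h => SuzRep.eqw (checkEq_of 4 (Cfsg.Agent.Schreier.SuzT.rep_wok (SuzRep.forall₂_map u))
    (Cfsg.Agent.Schreier.SuzT.rep_wok (SuzRep.forall₂_map v)) (by norm_num) h)
  ne := wd.ne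
  ne_sound := wd.ne_sound

theorem Suz_eleven : Conf 11 10 Cfsg.Spor.Suz :=
  wdF.conf_prime (r := 11) (k := 2) [0] [2] 10 (by norm_num) (by decide +kernel) (by decide)

theorem Suz_five : Orb 5 12 Cfsg.Spor.Suz :=
  (wdF.orb_gen (r := 5) (d := 2) (m := 12)
    (X := [[5, 4, 5, 2, 4, 2, 5, 2, 5, 3, 5, 3, 0, 5, 4, 2, 5, 1, 3, 4, 1, 5, 1, 1, 5, 1, 5, 0, 5, 3, 3, 5, 4, 1, 5, 0,
    4, 1, 2, 2, 5, 2, 0, 5, 0, 3, 0, 5, 1, 2, 1], [1, 1, 5, 4, 1, 5, 1, 4, 3, 0, 2, 0, 4, 5, 1, 3, 5, 4, 3, 3, 3,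
    0, 5, 2, 4, 1, 1, 4, 5, 0, 3, 4, 0, 5, 2, 4, 2, 1, 5, 0, 5, 3, 1, 1, 5, 4, 5, 2, 2, 5, 1, 4, 5, 3]])
    (G := [[0, 2, 5, 2, 0, 4, 1, 4, 0, 5, 4, 3, 5, 2, 0, 4, 2, 2, 1, 5, 3, 0, 5, 4, 5, 1, 1, 3, 3, 5, 4, 1, 5, 0, 4, 1,
    2, 2, 5, 2, 0, 5, 0, 3, 0, 5, 1, 2, 1]])
    (B := [[[3, 2], [3, 0]]])
    (S := [[], [0], [0, 0], [0, 0, 0], [0, 0, 0, 0], [0, 0, 0, 0, 0], [0, 0, 0, 0, 0, 0], [0, 0, 0, 0, 0, 0, 0], [0, 0,
    0, 0, 0, 0, 0, 0], [0, 0, 0, 0, 0, 0, 0, 0, 0], [0, 0, 0, 0, 0, 0, 0, 0, 0, 0], [0, 0, 0, 0, 0, 0, 0, 0, 0,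
    0, 0]])
    (c₀ := [0, 1]) (by norm_num) (by decide +kernel))

theorem Suz_three : Orb 3 36 Cfsg.Spor.Suz :=
  (wdF.orb_gen (r := 3) (d := 4) (m := 36)
    (X := [[2, 5, 4, 1, 3, 1, 1, 5, 3, 0, 2, 5, 2, 5, 2, 5, 4, 1, 2, 5, 3, 4, 1, 4, 0, 5, 4, 0, 5, 1, 5], [5, 4, 2, 2,
    2, 1, 2, 4, 1, 5, 4, 1, 2, 2, 1, 2, 4, 1, 1, 5, 4, 5, 2, 1, 5, 0, 4, 1, 1, 3, 5, 1, 3, 0, 4, 0, 2, 5, 2, 0,
    0, 4], [4, 2, 1, 1, 5, 2, 1, 4, 5, 2, 0, 2, 5, 4, 3, 0, 5, 1, 4, 2, 5, 0, 0, 3, 4, 5, 0, 5, 2, 2, 2, 0, 4, 5,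
    1, 5, 2, 5, 2, 2, 5, 3, 5, 2, 1, 5, 2, 4, 0, 0], [4, 1, 5, 0, 4, 5, 1, 5, 1, 5, 4, 0, 0, 0, 0, 0, 4, 5, 0, 4,
    0, 3, 5, 2, 2, 0, 5, 4, 0, 5, 2, 1, 5, 0, 5, 0, 2, 5, 4, 2, 1, 2, 0, 2, 5, 4, 0, 4, 0, 5, 3, 0]])
    (G := [[5, 0, 3, 5, 0, 0, 2, 2, 5, 0, 5, 1, 2, 5, 0, 3, 5, 3, 5, 3, 5, 2, 5, 1, 3, 1], [4, 3, 5, 4, 1, 1, 4, 0, 4,
    0, 5, 3, 3, 5, 0, 3, 4, 5, 0, 5, 2, 0, 4, 0, 5, 0, 4, 1, 3, 0, 3, 5]])
    (B := [[[2, 2, 2, 1], [2, 1, 2, 0], [0, 2, 1, 1], [1, 0, 0, 0]], [[0, 1, 0, 1], [1, 0, 0, 2], [1, 0, 0, 0], [1, 1,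
    1, 2]]])
    (S := [[], [0], [1], [1, 0], [0, 1], [0, 1, 0, 0, 0], [0, 0, 1, 0, 0], [0, 0, 0, 1, 0], [1, 1, 1, 0, 1], [1, 1, 0,
    1, 1], [1, 0, 1, 1, 1], [0, 0, 1, 0, 0, 0], [0, 0, 0, 1, 0, 0], [1, 1, 1, 0, 1, 1], [1, 1, 0, 1, 1, 1], [1,
    1, 1, 0, 1, 0, 0, 0], [1, 1, 0, 1, 1, 0, 0, 0], [1, 0, 1, 1, 1, 0, 0, 0], [1, 1, 1, 0, 0, 1, 0, 0], [0, 1, 1,
    1, 0, 1, 0, 0], [1, 1, 0, 0, 1, 1, 0, 0], [0, 1, 1, 1, 0, 0, 1, 0], [1, 0, 1, 1, 0, 0, 0, 1], [1, 1, 1, 0, 0,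
    1, 0, 0, 0], [0, 1, 1, 1, 0, 1, 0, 0, 0], [1, 1, 0, 0, 1, 1, 0, 0, 0], [1, 1, 1, 0, 1, 1, 0, 0, 0], [1, 1, 0,
    1, 1, 1, 0, 0, 0], [0, 1, 1, 1, 0, 0, 1, 0, 0], [1, 1, 1, 0, 0, 1, 1, 0, 0], [0, 1, 1, 1, 0, 1, 1, 0, 0], [1,
    0, 1, 1, 0, 0, 0, 1, 0], [1, 1, 0, 1, 1, 0, 0, 0, 1], [1, 1, 1, 0, 0, 1, 1, 0, 0, 0], [0, 1, 1, 1, 0, 1, 1,
    0, 0, 0], [1, 1, 0, 1, 1, 0, 0, 0, 1, 0]])
    (c₀ := [0, 1, 2, 1]) (by norm_num) (by decide +kernel))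

theorem Suz_two : Orb 2 15 Cfsg.Spor.Suz :=
  (wdF.orb_gen (r := 2) (d := 4) (m := 15)
    (X := [[0, 3, 5, 0, 5, 3, 5, 4, 0, 4, 2, 5, 2, 2, 4, 1, 4, 0, 2, 2, 5, 1, 3, 5, 0, 2, 5, 0, 5, 1, 1, 5, 0, 4, 0, 0,
    5, 1, 4, 5, 0, 3, 5, 3, 3, 5, 1, 3, 5, 3, 1, 2], [1, 4, 1, 5, 3, 0, 0, 4, 0, 0, 0, 5, 2, 0, 2, 5, 2, 5, 3, 5,
    2, 5, 2, 5, 2, 1, 2, 5, 4, 5, 2, 0, 2, 2, 0, 4, 5, 1, 5, 2, 5, 2, 2, 5, 3, 5, 2, 1, 5, 2, 4, 0, 0], [5, 0, 2,
    1, 5, 4, 0, 5, 4, 5, 3, 0, 4, 1, 5, 3, 1, 4, 1, 4, 5, 1, 5, 2, 0, 4, 5, 2, 4, 2, 5, 4, 5, 0, 5, 4, 1, 5, 3,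
    1, 4, 3, 5, 1, 4, 1, 5, 3, 0, 5, 0, 4, 0, 0, 0, 0, 4, 5, 0, 5, 1, 3, 4, 0, 5, 0, 5, 1, 5, 3, 3], [2, 2, 5, 3,
    3, 0, 4, 5, 1, 1, 1, 5, 1, 2, 1, 5, 1, 2, 5, 1, 4, 1, 5, 3, 5, 1, 3, 1, 5, 1, 5, 0, 4, 0, 0, 5, 1, 4, 5, 0,
    3, 5, 3, 3, 5, 1, 3, 5, 3, 1, 2, 2, 2, 5, 0, 5, 1, 5, 1, 4, 2, 0, 5, 1, 5, 4, 1, 1, 1, 1, 4, 1]])
    (G := [[3, 3, 4, 0, 5, 2, 4, 5, 2, 4, 5, 0, 0, 4, 1, 3, 1, 5, 2, 2, 4, 5, 4, 5], [4, 0, 3, 4, 5, 2, 5, 3, 1, 4, 5,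
    0, 5, 1, 5, 2, 5, 2, 5, 1, 1, 4, 0, 4, 1, 3, 4]])
    (B := [[[1, 1, 0, 0], [1, 0, 0, 0], [0, 1, 1, 1], [1, 0, 1, 0]], [[0, 0, 0, 1], [1, 0, 0, 1], [1, 0, 1, 0], [0, 1,
    1, 0]]])
    (S := [[], [0], [1], [1, 1, 0], [1, 1, 1], [1, 1, 1, 0], [1, 1, 0, 1], [1, 0, 0, 1, 1], [1, 0, 1, 0, 0, 1], [1, 0,
    0, 1, 0, 1], [1, 0, 0, 1, 0, 1, 0], [1, 1], [1, 1, 0, 0, 1, 0, 1, 0], [0, 0], [0, 1, 1, 0], [1, 0, 0, 1, 0,
    1, 0, 0], [1, 0, 1, 0, 0], [1, 1, 0, 1, 0, 0], [1, 0, 0, 1, 1, 0, 0], [0, 1, 0, 1, 0, 0]])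
    (c₀ := [0, 0, 0, 1]) (by norm_num) (by decide +kernel))

end Cfsg.Agent.H921.Spor.Suz
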