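import Cfsg.Agent.H921.SporM24
import Cfsg.Agent.Leech.FrameStab
import Cfsg.Agent.SporadicA.Co0Basic
import Cfsg.Agent.Prune
set_option linter.all false
prune_inst 0x7f00000000000000000000000000000000000000000000000000000000000000000000000000000000000000000000000000000000000000000000000000000000000000000000000000000000000000003fffffffffffffffffffffffffffbeffbdffffffff
open scoped Cfsg.Agent.FastGrp

/-!
# Mathieu groups in the groups of the Leech lattice

`M22 → HS`, `M22 → McL`, `M22 → Co2`, `M23 → Co3`, `M24 → Co1`, injective; the configurations they give.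
-/

set_option autoImplicit false

universe u v w

namespace Cfsg.Agent.H921.Spor.Co

open Cfsg Cfsg.Agent.Leech.FrameStab

/-- `permHom σ` fixes the vectors of the form `(a, b, c, c, …)` when `σ` fixes the two points, … -/
theorem fix_of {σ : M24} {v : leechLattice} (h : ∀ i, (v : GolayPt → ℤ) ((σ : Equiv.Perm GolayPt).symm i) =
    (v : GolayPt → ℤ) i) : permHom σ • v = v := by
  apply Subtype.ext
  funext i
  rw [permHom_apply, h]

theorem fix_V {σ : M24} (h : (σ : Equiv.Perm GolayPt) none = none) : permHom σ • Spor.leechV = Spor.leechV := by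
  apply fix_of
  intro i
  change Spor.vecV _ = Spor.vecV _
  unfold Spor.vecV
  have h1 : (σ : Equiv.Perm GolayPt).symm i = none ↔ i = none := by
    rw [Equiv.symm_apply_eq, h]
  simp only [h1]

theorem fix_U {σ : M24} (h : (σ : Equiv.Perm GolayPt) none = none)
    (h' : (σ : Equiv.Perm GolayPt) (some 0) = some 0) : permHom σ • Spor.leechU = Spor.leechU := by
  apply fix_of
  intro i
  change Spor.vecU _ = Spor.vecU _
  unfold Spor.vecU
  have h1 : (σ : Equiv.Perm GolayPt).symm i = none ↔ i = none := by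
    rw [Equiv.symm_apply_eq, h]
  have h2 : (σ : Equiv.Perm GolayPt).symm i = some 0 ↔ i = some 0 := by
    rw [Equiv.symm_apply_eq, h']
  simp only [h1, h2]

theorem fix_U' {σ : M24} (h : (σ : Equiv.Perm GolayPt) none = none)
    (h' : (σ : Equiv.Perm GolayPt) (some 0) = some 0) : permHom σ • Spor.leechU' = Spor.leechU' := by
  apply fix_of
  intro i
  change Spor.vecU' _ = Spor.vecU' _
  unfold Spor.vecU'
  have h1 : (σ : Equiv.Perm GolayPt).symm i = none ↔ i = none := by
    rw [Equiv.symm_apply_eq, h]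
  have h2 : (σ : Equiv.Perm GolayPt).symm i = some 0 ↔ i = some 0 := by
    rw [Equiv.symm_apply_eq, h']
  simp only [h1, h2]

/-- Homomorphisms into a subgroup of `Perm leechLattice` from a subgroup of `M24`. -/
noncomputable def homTo (K : Subgroup (Equiv.Perm GolayPt)) (hK : K ≤ M24) (H : Subgroup (Equiv.Perm leechLattice))
    (h : ∀ σ : M24, (σ : Equiv.Perm GolayPt) ∈ K → ((permHom σ : Co0) : Equiv.Perm leechLattice) ∈ H) : K →* H where
  toFun σ := ⟨((permHom ⟨σ, hK σ.2⟩ : Co0) : Equiv.Perm leechLattice), h _ σ.2⟩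
  map_one' := by
    apply Subtype.ext
    have : (⟨((1 : K) : Equiv.Perm GolayPt), hK (1 : K).2⟩ : M24) = 1 := rfl
    change ((permHom (⟨((1 : K) : Equiv.Perm GolayPt), hK (1 : K).2⟩ : M24) : Co0) : Equiv.Perm leechLattice) = 1
    rw [this, map_one]
    rfl
  map_mul' σ τ := by
    apply Subtype.ext
    have : (⟨((σ * τ : K) : Equiv.Perm GolayPt), hK (σ * τ).2⟩ : M24) = ⟨σ, hK σ.2⟩ * ⟨τ, hK τ.2⟩ := rfl
    change ((permHom (⟨((σ * τ : K) : Equiv.Perm GolayPt), hK (σ * τ).2⟩ : M24) : Co0) : Equiv.Perm leechLattice) = _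
    rw [this, map_mul]
    rfl

theorem homTo_injective {K : Subgroup (Equiv.Perm GolayPt)} {hK : K ≤ M24} {H : Subgroup (Equiv.Perm leechLattice)}
    {h : ∀ σ : M24, (σ : Equiv.Perm GolayPt) ∈ K → ((permHom σ : Co0) : Equiv.Perm leechLattice) ∈ H} :
    Function.Injective (homTo K hK H h) := by
  intro σ τ hst
  have h1 : ((permHom ⟨σ, hK σ.2⟩ : Co0) : Equiv.Perm leechLattice) = (permHom ⟨τ, hK τ.2⟩ : Co0) :=
    congrArg (fun x : H => (x : Equiv.Perm leechLattice)) hst
  have h2 := permHom_injective (Subtype.ext h1)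
  exact Subtype.ext (congrArg (Subtype.val : M24 → Equiv.Perm GolayPt) h2)

theorem M23_le : Spor.M23 ≤ M24 := inf_le_left
theorem M22_le : Spor.M22 ≤ M24 := inf_le_left.trans M23_le
theorem M22_le_M23 : Spor.M22 ≤ Spor.M23 := inf_le_left

theorem none_of_M23 {σ : Equiv.Perm GolayPt} (h : σ ∈ Spor.M23) : σ none = none := h.2
theorem none_of_M22 {σ : Equiv.Perm GolayPt} (h : σ ∈ Spor.M22) : σ none = none := none_of_M23 h.1
theorem zero_of_M22 {σ : Equiv.Perm GolayPt} (h : σ ∈ Spor.M22) : σ (some 0) = some 0 := h.2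

theorem exists_Co3 : ∃ f : Spor.M23 →* Spor.Co3, Function.Injective f :=
  ⟨homTo _ M23_le _ (fun σ hσ => ⟨(permHom σ).2, fix_V (none_of_M23 hσ)⟩), homTo_injective⟩

theorem exists_Co2 : ∃ f : Spor.M22 →* Spor.Co2, Function.Injective f :=
  ⟨homTo _ M22_le _ (fun σ hσ => ⟨(permHom σ).2, fix_U (none_of_M22 hσ) (zero_of_M22 hσ)⟩), homTo_injective⟩

theorem exists_McL : ∃ f : Spor.M22 →* Spor.McL, Function.Injective f :=
  ⟨homTo _ M22_le _ (fun σ hσ => ⟨⟨(permHom σ).2, fix_V (none_of_M22 hσ)⟩,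
    fix_U (none_of_M22 hσ) (zero_of_M22 hσ)⟩), homTo_injective⟩

theorem exists_HS : ∃ f : Spor.M22 →* Spor.HS, Function.Injective f :=
  ⟨homTo _ M22_le _ (fun σ hσ => ⟨⟨(permHom σ).2, fix_V (none_of_M22 hσ)⟩,
    fix_U' (none_of_M22 hσ) (zero_of_M22 hσ)⟩), homTo_injective⟩

theorem exists_Co1 : ∃ f : M24 →* Spor.Co1, Function.Injective f := by
  refine ⟨(QuotientGroup.mk' (Subgroup.center Co0)).comp permHom, ?_⟩
  rw [injective_iff_map_eq_one]
  intro σ hσ
  have h1 : permHom σ ∈ Subgroup.center Co0 := by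
    rwa [MonoidHom.comp_apply, QuotientGroup.mk'_apply, QuotientGroup.eq_one_iff] at hσ
  rcases Cfsg.Agent.SporadicA.Co0Basic.eq_one_or_neg_of_mem_center h1 with h2 | h2
  · exact permHom_injective (by rw [h2, map_one])
  · exfalso
    -- `permHom σ = -1` moves `e₈` to a vector with non-negative coordinates
    have h3 := permHom_apply σ (Cfsg.Agent.Leech.FrameAux.e8 none) ((σ : Equiv.Perm GolayPt) none)
    rw [Equiv.symm_apply_apply, Cfsg.Agent.Leech.FrameAux.coe_e8, Pi.single_eq_same, h2] at h3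
    have h4 : ((Cfsg.Agent.SporadicA.Co0Basic.negCo0 • Cfsg.Agent.Leech.FrameAux.e8 none : leechLattice) :
        GolayPt → ℤ) = - (Cfsg.Agent.Leech.FrameAux.e8 none : GolayPt → ℤ) := rfl
    rw [h4, Pi.neg_apply, Cfsg.Agent.Leech.FrameAux.coe_e8, Pi.single_apply] at h3
    split_ifs at h3 <;> omega

/-! ### The configurations -/

theorem HS_three : Orb 3 8 Spor.HS := by
  obtain ⟨f, hf⟩ := exists_HS
  exact M24.M22_three.of_inj f hf

theorem HS_two : Orb 2 15 Spor.HS := by
  obtain ⟨f, hf⟩ := exists_HS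
  exact M24.M22_two.of_inj f hf

theorem HS_eleven : Conf 11 5 Spor.HS := by
  obtain ⟨f, hf⟩ := exists_HS
  exact M24.M22_eleven.of_inj f hf

theorem McL_three : Orb 3 8 Spor.McL := by
  obtain ⟨f, hf⟩ := exists_McL
  exact M24.M22_three.of_inj f hf

theorem McL_two : Orb 2 15 Spor.McL := by
  obtain ⟨f, hf⟩ := exists_McL
  exact M24.M22_two.of_inj f hf

theorem McL_eleven : Conf 11 5 Spor.McL := by
  obtain ⟨f, hf⟩ := exists_McL
  exact M24.M22_eleven.of_inj f hf

theorem Co2_three : Orb 3 8 Spor.Co2 := by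
  obtain ⟨f, hf⟩ := exists_Co2
  exact M24.M22_three.of_inj f hf

theorem Co2_two : Orb 2 15 Spor.Co2 := by
  obtain ⟨f, hf⟩ := exists_Co2
  exact M24.M22_two.of_inj f hf

theorem Co2_eleven : Conf 11 5 Spor.Co2 := by
  obtain ⟨f, hf⟩ := exists_Co2
  exact M24.M22_eleven.of_inj f hf

theorem Co3_three : Orb 3 8 Spor.Co3 := by
  obtain ⟨f, hf⟩ := exists_Co3
  exact (M24.M22_three.of_inj (Subgroup.inclusion M22_le_M23) (Subgroup.inclusion_injective _)).of_inj f hf

theorem Co3_twentythree : Conf 23 11 Spor.Co3 := by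
  obtain ⟨f, hf⟩ := exists_Co3
  exact M24.M23_twentythree.of_inj f hf

theorem Co1_three : Orb 3 8 Spor.Co1 := by
  obtain ⟨f, hf⟩ := exists_Co1
  exact (M24.M22_three.of_inj (Subgroup.inclusion M22_le) (Subgroup.inclusion_injective _)).of_inj f hf

theorem Co1_twentythree : Conf 23 11 Spor.Co1 := by
  obtain ⟨f, hf⟩ := exists_Co1
  exact (M24.M23_twentythree.of_inj (Subgroup.inclusion M23_le) (Subgroup.inclusion_injective _)).of_inj f hf

end Cfsg.Agent.H921.Spor.Co
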