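import Cfsg.Agent.H175.BdSp_m3
import Cfsg.Agent.H921.SporHN
import Cfsg.Agent.TypeM.FactsLy
import Cfsg.Agent.KFacts.Th.Main
import Cfsg.Agent.H921.SporCo
import Cfsg.Agent.H920.FiTwoMain
import Cfsg.Agent.H921.SporMore_m3
import Cfsg.Agent.H921.SporJ1
import Cfsg.Agent.H4.JT.Two
import Cfsg.Agent.H921.SporON
import Cfsg.Agent.H921.SporRu
import Cfsg.Agent.H921.SporSuz
import Cfsg.Agent.H921.SporTits
import Cfsg.Prelude.Def_Classification2
import Cfsg.Agent.H906.Cover_m3
import Cfsg.Agent.Prune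
set_option linter.all false

-- part: H921/SporTable
section
set_option linter.all false
open scoped Cfsg.Agent.FastGrp

-- part: H921/SporPair
section
/-!
# Pairs of primes
-/

set_option autoImplicit false

universe u v w

namespace Cfsg.Agent.H921.Spor

/-- Two distinct primes outside `bad` with orbits of length at least `m`. -/
def Pr2 (m : ℕ) (bad : List ℕ) (T : Type v) [Group T] : Prop :=
  ∃ r s : ℕ, r.Prime ∧ s.Prime ∧ r ≠ s ∧ r ∉ bad ∧ s ∉ bad ∧ Orb r m T ∧ Orb s m T

theorem Pr2.mk' {m : ℕ} {bad : List ℕ} {T : Type v} [Group T] (r s : ℕ) {a b : ℕ} (hr : Orb r a T) (hs : Orb s b T)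
    (hrp : r.Prime) (hsp : s.Prime) (h : r ≠ s ∧ r ∉ bad ∧ s ∉ bad ∧ m ≤ a ∧ m ≤ b) : Pr2 m bad T :=
  ⟨r, s, hrp, hsp, h.1, h.2.1, h.2.2.1, hr.mono h.2.2.2.1, hs.mono h.2.2.2.2⟩

theorem Pr2.of_equiv {m : ℕ} {bad : List ℕ} {T : Type v} [Group T] {T' : Type w} [Group T'] (e : T ≃* T')
    (h : Pr2 m bad T') : Pr2 m bad T := by
  obtain ⟨r, s, h1, h2, h3, h4, h5, h6, h7⟩ := h
  exact ⟨r, s, h1, h2, h3, h4, h5, h6.of_equiv' e, h7.of_equiv' e⟩

/-- The same for a subgroup (helps the unifier). -/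
theorem Pr2.of_sub_equiv {G : Type u} [Group G] {K : Subgroup G} {T : Type v} [Group T] {m : ℕ} {bad : List ℕ}
    (e : T ≃* ↥K) (h : Pr2 m bad ↥K) : Pr2 m bad T := h.of_equiv e

/-- One of the two primes is not the characteristic. -/
theorem Pr2.exists_bd {m : ℕ} {bad : List ℕ} {T : Type v} [Group T] (h : Pr2 m bad T) (F : Type u) [Field F] :
    ∃ r : ℕ, r.Prime ∧ r ∉ bad ∧ (r : F) ≠ 0 ∧ Cfsg.Agent.H912.Bd.Bd F r m T := by
  obtain ⟨r, s, h1, h2, h3, h4, h5, h6, h7⟩ := h
  by_cases hr : (r : F) = 0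
  · have hs : (s : F) ≠ 0 := by
      intro hs
      have hc := (Nat.coprime_primes h1 h2).2 h3
      have h8 := congrArg (Int.cast (R := F)) (Nat.gcd_eq_gcd_ab r s)
      rw [Nat.coprime_iff_gcd_eq_one.1 hc] at h8
      push_cast at h8
      rw [hr, hs, zero_mul, zero_mul, add_zero] at h8
      exact one_ne_zero h8
    exact ⟨s, h2, h5, hs, h7.bd h2 hs⟩
  · exact ⟨r, h1, h4, hr, h6.bd h1 hr⟩

/-- Contradiction from a projective representation of small degree whose kernel has order dividing a power of `n`. -/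
theorem Pr2.lt {m : ℕ} {bad : List ℕ} {T : Type v} [Group T] (h : Pr2 m bad T) {F : Type u} [Field F] {n : ℕ}
    (hn : ∀ r : ℕ, r.Prime → r ∉ bad → Cfsg.Agent.H912.Bd.PR F n r T) : m ≤ n := by
  obtain ⟨r, hr, hb, _, hbd⟩ := h.exists_bd F
  exact hbd n (hn r hr hb)

end Cfsg.Agent.H921.Spor
end

-- part: H921/SporLy
section
/-!
# The Lyons group: bounds from `2·A₁₁`
-/

set_option autoImplicit false

namespace Cfsg.Agent.H921.Spor.Ly

theorem quot {H : Type*} [Group H] (h : IsNonsplitDoubleCover H (alternatingGroup (Fin 11))) {r m : ℕ}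
    (hr : r.Prime) (hr2 : r ≠ 2) (ho : Orb r m (alternatingGroup (Fin 11))) : Orb r m H := by
  obtain ⟨h2, ⟨e⟩, -⟩ := h
  have hfin : Finite (Subgroup.center H) := Nat.finite_of_card_ne_zero (by rw [h2]; norm_num)
  refine Orb.of_quot hr (Subgroup.center H) ?_ (ho.of_equiv' e)
  rw [h2]
  exact (Nat.coprime_primes Nat.prime_two hr).2 (Ne.symm hr2)

theorem Ly_seven : Orb 7 6 Cfsg.Spor.Ly :=
  Orb.of_sub (quot Cfsg.Agent.TypeM.FactsLy.isNonsplit_ly (by norm_num) (by norm_num)
    ((Alt.conf_seven (α := Fin 11) (by simp)).orb (by norm_num)))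

theorem Ly_three : Orb 3 8 Cfsg.Spor.Ly :=
  Orb.of_sub (quot Cfsg.Agent.TypeM.FactsLy.isNonsplit_ly (by norm_num) (by norm_num)
    (Alt.orb_three (α := Fin 11) (by simp)))

end Cfsg.Agent.H921.Spor.Ly
end

-- part: H921/SporTh
section
/-!
# The Thompson group: bounds from `2^{1+8}·A₉`
-/

set_option autoImplicit false

namespace Cfsg.Agent.H921.Spor.Th

open Cfsg.Agent.Th.Base Cfsg.Agent.Th.Word Cfsg.Agent.Th.RelWords Cfsg.Agent.Th.PermTab
  Cfsg.Agent.Th.KOracle Cfsg.Agent.Th.KPerm Cfsg.Agent.Th.NineAct Cfsg.Agent.Th.CStruct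
open Cfsg.Agent.KFacts.Th.Struct

theorem lift {r m : ℕ} (hr : r.Prime) (hr2 : r ≠ 2) (ho : Orb r m (alternatingGroup (Fin 9))) :
    Orb r m Cfsg.Spor.Th := by
  have h := Cfsg.Agent.KFacts.Th.Main.ctx
  obtain ⟨f, hf, hker, -⟩ := h.exists_epi
  have hfin := h.fin
  refine Orb.of_sub (ho.of_surj hr f hf inferInstance ?_)
  have hc : Nat.card f.ker ∣ 2 ^ 9 := by
    have h2 : Nat.card f.ker ∣ Nat.card (Q0 Cfsg.Agent.Th.IndexUpper.gTh) := by
      rw [hker]
      exact Subgroup.card_comap_dvd_of_injective _ _ (Subgroup.subtype_injective _)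
    rwa [h.cardQ, show 512 = 2 ^ 9 by norm_num] at h2
  exact Nat.Coprime.coprime_dvd_left hc (Nat.Coprime.pow_left 9 ((Nat.coprime_primes Nat.prime_two hr).2 (Ne.symm hr2)))

theorem Th_seven : Orb 7 6 Cfsg.Spor.Th :=
  lift (by norm_num) (by norm_num) ((Alt.conf_seven (α := Fin 9) (by simp)).orb (by norm_num))

theorem Th_three : Orb 3 8 Cfsg.Spor.Th :=
  lift (by norm_num) (by norm_num) (Alt.orb_three (α := Fin 9) (by simp))

end Cfsg.Agent.H921.Spor.Th
end

-- part: H921/SporTable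
section
/-!
# The sporadic simple groups and the Tits group have no projective representations of small degree

`spor_four`: two odd primes with orbits of length at least 5 (every sporadic group and the Tits group).
`spor_five`: two primes different from 5 with orbits of length at least 6 (all but `M₁₁`).
-/

set_option autoImplicit false

universe u v



namespace Cfsg.Agent.H921.Spor.Table

open Cfsg Cfsg.Spor

/-- Two odd primes, orbits of length at least 5. -/
theorem four {T : Type v} [Group T] (hs : IsSimpleGroup T) (hnc : ∃ a b : T, a * b ≠ b * a)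
    (h : IsSporadicGroup T ∨ Lie.IsoTits T) : Pr2 5 [2] T := by
  have nc : ∀ {T' : Type} [Group T'], (T ≃* T') → ∃ a b : T', a * b ≠ b * a := by
    intro T' _ e
    obtain ⟨a, b, hab⟩ := hnc
    refine ⟨e a, e b, fun h => hab (e.injective ?_)⟩
    rw [map_mul, map_mul, h]
  have sp : ∀ {T' : Type} [Group T'], (T ≃* T') → IsSimpleGroup T' := fun e =>
    (MulEquiv.isSimpleGroup_congr e).1 hs
  rcases h with (h | h | h | h | h | h | h | h | h | h | h | h | h | h | h | h | h | h | h | h | h | h | h | h | h | h) | h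
  · obtain ⟨e⟩ := h
    exact (Pr2.mk' 3 11 (M24.M11_three.orb (by norm_num))
      (M24.M11_eleven.orb (by norm_num)) (by norm_num) (by norm_num) (by norm_num)).of_equiv e
  · obtain ⟨e⟩ := h
    exact (Pr2.mk' 3 11 (M24.M12_three.orb (by norm_num))
      (M24.M12_eleven.orb (by norm_num)) (by norm_num) (by norm_num) (by norm_num)).of_equiv e
  · obtain ⟨e⟩ := h
    exact (Pr2.mk' 3 11 M24.M22_three
      (M24.M22_eleven.orb (by norm_num)) (by norm_num) (by norm_num) (by norm_num)).of_equiv e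
  · obtain ⟨e⟩ := h
    exact (Pr2.mk' 3 23 M24.M23_three
      (M24.M23_twentythree.orb (by norm_num)) (by norm_num) (by norm_num) (by norm_num)).of_equiv e
  · obtain ⟨e⟩ := h
    exact (Pr2.mk' 3 11 M24.M24_three
      (M24.M24_eleven.orb (by norm_num)) (by norm_num) (by norm_num) (by norm_num)).of_equiv e
  · obtain ⟨e⟩ := h
    exact (Pr2.mk' 19 11 (J1.J1_nineteen.orb (by norm_num))
      (J1.J1_eleven.orb (by norm_num)) (by norm_num) (by norm_num) (by norm_num)).of_equiv e
  · obtain ⟨e⟩ := h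
    exact (Pr2.mk' 7 5 J2.J2_seven
      J2.J2_five (by norm_num) (by norm_num) (by norm_num)).of_equiv e
  · obtain ⟨F, _, _, ω, hF, hω, ⟨e⟩⟩ := h
    have H := Cfsg.Agent.J3.Core.good_of_card hF hω
    exact (Pr2.mk' 19 17 ((J3.J3_nineteen hF H).orb (by norm_num)) ((J3.J3_seventeen hF H).orb (by norm_num))
      (by norm_num) (by norm_num) (by norm_num)).of_equiv e
  · obtain ⟨e⟩ := h
    exact (Pr2.mk' 3 11 J4.J4_three
      (J4.J4_eleven.orb (by norm_num)) (by norm_num) (by norm_num) (by norm_num)).of_equiv e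
  · obtain ⟨e⟩ := h
    exact (Pr2.mk' 3 23 Co.Co1_three
      (Co.Co1_twentythree.orb (by norm_num)) (by norm_num) (by norm_num) (by norm_num)).of_equiv e
  · obtain ⟨e⟩ := h
    exact (Pr2.mk' 3 11 Co.Co2_three
      (Co.Co2_eleven.orb (by norm_num)) (by norm_num) (by norm_num) (by norm_num)).of_equiv e
  · obtain ⟨e⟩ := h
    exact (Pr2.mk' 3 23 Co.Co3_three
      (Co.Co3_twentythree.orb (by norm_num)) (by norm_num) (by norm_num) (by norm_num)).of_equiv e
  · obtain ⟨e⟩ := h
    exact (Pr2.mk' 3 11 Co.McL_three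
      (Co.McL_eleven.orb (by norm_num)) (by norm_num) (by norm_num) (by norm_num)).of_equiv e
  · obtain ⟨e⟩ := h
    exact (Pr2.mk' 3 11 Co.HS_three
      (Co.HS_eleven.orb (by norm_num)) (by norm_num) (by norm_num) (by norm_num)).of_equiv e
  · obtain ⟨e⟩ := h
    exact (Pr2.mk' 3 11 Suz.Suz_three
      (Suz.Suz_eleven.orb (by norm_num)) (by norm_num) (by norm_num) (by norm_num)).of_equiv e
  · obtain ⟨e⟩ := h
    exact (Pr2.mk' 3 7 He.He_three
      He.He_seven (by norm_num) (by norm_num) (by norm_num)).of_equiv e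
  · obtain ⟨e⟩ := h
    exact (Pr2.mk' 29 13 (Ru.Ru_twentynine.orb (by norm_num))
      (Ru.Ru_thirteen.orb (by norm_num)) (by norm_num) (by norm_num) (by norm_num)).of_equiv e
  · obtain ⟨e⟩ := h
    exact (Pr2.mk' 19 31 (ON.ON_nineteen (sp e))
      (ON.ON_thirtyone (sp e)) (by norm_num) (by norm_num) (by norm_num)).of_equiv e
  · obtain ⟨e⟩ := h
    exact (Pr2.mk' 3 7 Ly.Ly_three
      Ly.Ly_seven (by norm_num) (by norm_num) (by norm_num)).of_equiv e
  · obtain ⟨e⟩ := h
    exact (Pr2.mk' 3 7 (Fi.Fi22_three (nc e))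
      ((Fi.Fi22_seven (nc e)).orb (by norm_num)) (by norm_num) (by norm_num) (by norm_num)).of_equiv e
  · obtain ⟨e⟩ := h
    exact (Pr2.mk' 3 7 (Fi.Fi23_three (nc e))
      ((Fi.Fi23_seven (nc e)).orb (by norm_num)) (by norm_num) (by norm_num) (by norm_num)).of_equiv e
  · obtain ⟨e⟩ := h
    exact (Pr2.mk' 3 7 (Fi.Fi24_three (nc e))
      ((Fi.Fi24_seven (nc e)).orb (by norm_num)) (by norm_num) (by norm_num) (by norm_num)).of_equiv e
  · obtain ⟨e⟩ := h
    exact (Pr2.mk' 3 7 (HN.HN_three (sp e))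
      ((HN.HN_seven (sp e)).orb (by norm_num)) (by norm_num) (by norm_num) (by norm_num)).of_equiv e
  · obtain ⟨e⟩ := h
    exact (Pr2.mk' 3 7 Th.Th_three
      Th.Th_seven (by norm_num) (by norm_num) (by norm_num)).of_equiv e
  · obtain ⟨e⟩ := h
    exact (Pr2.mk' 3 7 (Fi.B_three (nc e))
      ((Fi.B_seven (nc e)).orb (by norm_num)) (by norm_num) (by norm_num) (by norm_num)).of_equiv e
  · obtain ⟨e⟩ := h
    exact (Pr2.mk' 3 7 (Fi.M_three (nc e))
      ((Fi.M_seven (nc e)).orb (by norm_num)) (by norm_num) (by norm_num) (by norm_num)).of_equiv e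
  · obtain ⟨e⟩ := h
    have h0 : Pr2 5 [2] Lie.TitsGroup :=
      Pr2.mk' 3 13 Tits.Tits_three Tits.Tits_thirteen (by norm_num) (by norm_num) (by norm_num)
    exact Pr2.of_sub_equiv e h0

/-- Two primes different from 5, orbits of length at least 6. -/
theorem five {T : Type v} [Group T] (hs : IsSimpleGroup T) (hnc : ∃ a b : T, a * b ≠ b * a)
    (h : IsSporadicGroup T ∨ Lie.IsoTits T) (h11 : ¬ IsoM11 T) : Pr2 6 [5] T := by
  have nc : ∀ {T' : Type} [Group T'], (T ≃* T') → ∃ a b : T', a * b ≠ b * a := by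
    intro T' _ e
    obtain ⟨a, b, hab⟩ := hnc
    refine ⟨e a, e b, fun h => hab (e.injective ?_)⟩
    rw [map_mul, map_mul, h]
  have sp : ∀ {T' : Type} [Group T'], (T ≃* T') → IsSimpleGroup T' := fun e =>
    (MulEquiv.isSimpleGroup_congr e).1 hs
  rcases h with (h | h | h | h | h | h | h | h | h | h | h | h | h | h | h | h | h | h | h | h | h | h | h | h | h | h) | h
  · exact absurd h h11
  · obtain ⟨e⟩ := h
    exact (Pr2.mk' 3 2 (M24.M12_three.orb (by norm_num))
      M24.M12_two (by norm_num) (by norm_num) (by norm_num)).of_equiv e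
  · obtain ⟨e⟩ := h
    exact (Pr2.mk' 3 2 M24.M22_three
      M24.M22_two (by norm_num) (by norm_num) (by norm_num)).of_equiv e
  · obtain ⟨e⟩ := h
    exact (Pr2.mk' 3 23 M24.M23_three
      (M24.M23_twentythree.orb (by norm_num)) (by norm_num) (by norm_num) (by norm_num)).of_equiv e
  · obtain ⟨e⟩ := h
    exact (Pr2.mk' 3 11 M24.M24_three
      (M24.M24_eleven.orb (by norm_num)) (by norm_num) (by norm_num) (by norm_num)).of_equiv e
  · obtain ⟨e⟩ := h
    exact (Pr2.mk' 19 11 (J1.J1_nineteen.orb (by norm_num))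
      (J1.J1_eleven.orb (by norm_num)) (by norm_num) (by norm_num) (by norm_num)).of_equiv e
  · obtain ⟨e⟩ := h
    exact (Pr2.mk' 7 2 J2.J2_seven
      J2.J2_two (by norm_num) (by norm_num) (by norm_num)).of_equiv e
  · obtain ⟨F, _, _, ω, hF, hω, ⟨e⟩⟩ := h
    have H := Cfsg.Agent.J3.Core.good_of_card hF hω
    exact (Pr2.mk' 19 17 ((J3.J3_nineteen hF H).orb (by norm_num)) ((J3.J3_seventeen hF H).orb (by norm_num))
      (by norm_num) (by norm_num) (by norm_num)).of_equiv e
  · obtain ⟨e⟩ := h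
    exact (Pr2.mk' 3 11 J4.J4_three
      (J4.J4_eleven.orb (by norm_num)) (by norm_num) (by norm_num) (by norm_num)).of_equiv e
  · obtain ⟨e⟩ := h
    exact (Pr2.mk' 3 23 Co.Co1_three
      (Co.Co1_twentythree.orb (by norm_num)) (by norm_num) (by norm_num) (by norm_num)).of_equiv e
  · obtain ⟨e⟩ := h
    exact (Pr2.mk' 3 2 Co.Co2_three
      Co.Co2_two (by norm_num) (by norm_num) (by norm_num)).of_equiv e
  · obtain ⟨e⟩ := h
    exact (Pr2.mk' 3 23 Co.Co3_three
      (Co.Co3_twentythree.orb (by norm_num)) (by norm_num) (by norm_num) (by norm_num)).of_equiv e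
  · obtain ⟨e⟩ := h
    exact (Pr2.mk' 3 2 Co.McL_three
      Co.McL_two (by norm_num) (by norm_num) (by norm_num)).of_equiv e
  · obtain ⟨e⟩ := h
    exact (Pr2.mk' 3 2 Co.HS_three
      Co.HS_two (by norm_num) (by norm_num) (by norm_num)).of_equiv e
  · obtain ⟨e⟩ := h
    exact (Pr2.mk' 3 11 Suz.Suz_three
      (Suz.Suz_eleven.orb (by norm_num)) (by norm_num) (by norm_num) (by norm_num)).of_equiv e
  · obtain ⟨e⟩ := h
    exact (Pr2.mk' 3 7 He.He_three
      He.He_seven (by norm_num) (by norm_num) (by norm_num)).of_equiv e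
  · obtain ⟨e⟩ := h
    exact (Pr2.mk' 29 13 (Ru.Ru_twentynine.orb (by norm_num))
      (Ru.Ru_thirteen.orb (by norm_num)) (by norm_num) (by norm_num) (by norm_num)).of_equiv e
  · obtain ⟨e⟩ := h
    exact (Pr2.mk' 19 31 (ON.ON_nineteen (sp e))
      (ON.ON_thirtyone (sp e)) (by norm_num) (by norm_num) (by norm_num)).of_equiv e
  · obtain ⟨e⟩ := h
    exact (Pr2.mk' 3 7 Ly.Ly_three
      Ly.Ly_seven (by norm_num) (by norm_num) (by norm_num)).of_equiv e
  · obtain ⟨e⟩ := h
    exact (Pr2.mk' 3 7 (Fi.Fi22_three (nc e))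
      ((Fi.Fi22_seven (nc e)).orb (by norm_num)) (by norm_num) (by norm_num) (by norm_num)).of_equiv e
  · obtain ⟨e⟩ := h
    exact (Pr2.mk' 3 7 (Fi.Fi23_three (nc e))
      ((Fi.Fi23_seven (nc e)).orb (by norm_num)) (by norm_num) (by norm_num) (by norm_num)).of_equiv e
  · obtain ⟨e⟩ := h
    exact (Pr2.mk' 3 7 (Fi.Fi24_three (nc e))
      ((Fi.Fi24_seven (nc e)).orb (by norm_num)) (by norm_num) (by norm_num) (by norm_num)).of_equiv e
  · obtain ⟨e⟩ := h
    exact (Pr2.mk' 3 7 (HN.HN_three (sp e))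
      ((HN.HN_seven (sp e)).orb (by norm_num)) (by norm_num) (by norm_num) (by norm_num)).of_equiv e
  · obtain ⟨e⟩ := h
    exact (Pr2.mk' 3 7 Th.Th_three
      Th.Th_seven (by norm_num) (by norm_num) (by norm_num)).of_equiv e
  · obtain ⟨e⟩ := h
    exact (Pr2.mk' 3 7 (Fi.B_three (nc e))
      ((Fi.B_seven (nc e)).orb (by norm_num)) (by norm_num) (by norm_num) (by norm_num)).of_equiv e
  · obtain ⟨e⟩ := h
    exact (Pr2.mk' 3 7 (Fi.M_three (nc e))
      ((Fi.M_seven (nc e)).orb (by norm_num)) (by norm_num) (by norm_num) (by norm_num)).of_equiv e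
  · obtain ⟨e⟩ := h
    have h0 : Pr2 6 [5] Lie.TitsGroup :=
      Pr2.mk' 3 13 Tits.Tits_three Tits.Tits_thirteen (by norm_num) (by norm_num) (by norm_num)
    exact Pr2.of_sub_equiv e h0

/-- `M₁₁`: one prime different from 5 if the characteristic is not 3. -/
theorem M11_bd {T : Type v} [Group T] (h : IsoM11 T) {F : Type u} [Field F] (h3 : (3 : F) ≠ 0) :
    Cfsg.Agent.H912.Bd.Bd F 3 8 T := by
  obtain ⟨e⟩ := h
  exact (M24.M11_three.of_equiv' e).bd (by norm_num) (by exact_mod_cast h3)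

end Cfsg.Agent.H921.Spor.Table
end
end

-- part: H921/SporCore
section
set_option linter.all false
open scoped Cfsg.Agent.FastGrp

/-!
# Sporadic groups and the Tits group do not occur in dimensions 4 and 5 (but for `M₁₁` in characteristic 3)
-/

set_option autoImplicit false

universe u v w

namespace Cfsg.Agent.H921.Spor

open Cfsg Cfsg.Geo Cfsg.Agent.H915.LD

/-- The order of the group of scalars is prime to `r` if `r` does not divide the dimension. -/
theorem core_coprime {ι : Type} [Fintype ι] [DecidableEq ι] {F : Type u} [Field F] [Finite F] {P : Subgroup (GL ι F)}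
    (hC : Core P) {r : ℕ} (hr : r.Prime) (hn : ¬ r ∣ Fintype.card ι) :
    (Nat.card ((scalars ι F).subgroupOf P)).Coprime r := by
  rw [Nat.coprime_comm, hr.coprime_iff_not_dvd]
  intro h
  have : Fact r.Prime := ⟨hr⟩
  obtain ⟨z, hz⟩ := exists_prime_orderOf_dvd_card' (G := ((scalars ι F).subgroupOf P)) r h
  have h1 := hC.pow_card z.2
  have h2 : z ^ Fintype.card ι = 1 := Subtype.ext h1
  rw [← orderOf_dvd_iff_pow_eq_one, hz] at h2
  exact hn h2

/-- The bound for a core. -/
theorem core_le {n : ℕ} {F : Type u} [Field F] [Finite F] {P : Subgroup (GL (Fin n) F)} (hC : Core P) {T : Type v}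
    [Group T] (e : Soc P ≃* T) {m : ℕ} {bad : List ℕ} (h : Pr2 m bad T)
    (hbad : ∀ r : ℕ, r.Prime → r ∉ bad → ¬ r ∣ n) : m ≤ n :=
  h.lt (F := F) fun _ hr hb => hC.pr e (core_coprime hC hr (by rw [Fintype.card_fin]; exact hbad _ hr hb))

theorem core_nc {ι : Type} [Fintype ι] [DecidableEq ι] {F : Type u} [Field F] [Finite F] {P : Subgroup (GL ι F)}
    (hC : Core P) : ∃ a b : Soc P, a * b ≠ b * a := by
  by_contra h
  push Not at h
  exact hC.nonabelian ⟨⟨h⟩⟩

/-- Dimension 4: no sporadic group, not the Tits group. -/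
theorem core_four {F : Type u} [Field F] [Finite F] {P : Subgroup (GL (Fin 4) F)} (hC : Core P)
    (h : IsSporadicGroup (Soc P) ∨ Lie.IsoTits (Soc P)) : False := by
  have h1 := core_le hC (MulEquiv.refl _) (Table.four hC.simple (core_nc hC) h) (by
    intro r hr hb hd
    apply hb
    have h2 := (Nat.dvd_prime_pow Nat.prime_two (m := 2)).1 (by simpa using hd)
    obtain ⟨k, hk, rfl⟩ := h2
    interval_cases k
    · exact absurd hr (by norm_num)
    · simp
    · exact absurd hr (by norm_num))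
  omega

/-- Dimension 5: only `M₁₁` in characteristic 3. -/
theorem core_five {F : Type u} [Field F] [Finite F] {P : Subgroup (GL (Fin 5) F)} (hC : Core P)
    (h : IsSporadicGroup (Soc P) ∨ Lie.IsoTits (Soc P)) : Spor.IsoM11 (Soc P) ∧ (3 : F) = 0 := by
  have hb : ∀ r : ℕ, r.Prime → r ∉ [5] → ¬ r ∣ 5 := by
    intro r hr hb hd
    rcases (Nat.dvd_prime Nat.prime_five).1 hd with h | h
    · exact absurd hr (by rw [h]; norm_num)
    · simp [h] at hb
  by_cases h11 : Spor.IsoM11 (Soc P)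
  · refine ⟨h11, ?_⟩
    by_contra h3
    have h4 := Table.M11_bd h11 h3 5 (hC.pr (MulEquiv.refl _) (core_coprime hC Nat.prime_three (by simp)))
    omega
  · have h1 := core_le hC (MulEquiv.refl _) (Table.five hC.simple (core_nc hC) h h11) hb
    omega

end Cfsg.Agent.H921.Spor
end
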