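import Cfsg.Agent.H921.SporON
import Cfsg.Agent.Prune
set_option linter.all false
open scoped Cfsg.Agent.FastGrp

/-!
# The O'Nan group: `11`-subgroups (needs much memory: keep it out of the closure of statements)
-/

set_option autoImplicit false
set_option maxRecDepth 100000
set_option maxHeartbeats 0

namespace Cfsg.Agent.H921.Spor.ON

open Cfsg.Spor (ON)
open Cfsg.Spor.ON (Gen)
open Cfsg.Agent.KFacts.MulSpor.ON (w w_append w_one w_cons w_iw iw okw rel eqw cj mats)

open Cfsg.Agent.SporadicB.ON45Word (on LW)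
open Cfsg.Agent.ONType.TupRow (rowNe ne_of_rowNe)

namespace E11

section FastPackMat
open Cfsg.Agent.Lib.PackMat

/-- one step on a row which is followed by 64 arbitrary bits -/
private noncomputable def fStep (p r m t nf GM FM LO HI HT P G : ℕ) : ℕ :=
  Nat.add (Nat.shiftLeft ((fun F => Nat.sub F (Nat.mul p (Nat.land (Nat.shiftRight (Nat.mul F m) t) HT)))
    (Nat.rec (Nat.mod (Nat.land (Nat.mul (Nat.shiftRight P 64) G) GM) FM)
      (fun _ F => Nat.add (Nat.land F LO) (Nat.land (Nat.shiftRight F r) HI)) nf)) 64)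
    (Nat.mod (Nat.add P 1) 18446744073709551557)

private theorem fFold (r LO HI k : ℕ) : ∀ F, foldK r LO HI k F =
    Nat.rec F (fun _ F => Nat.add (Nat.land F LO) (Nat.land (Nat.shiftRight F r) HI)) k := by
  have key : ∀ (f : ℕ → ℕ) (k F : ℕ), (Nat.rec (f F) (fun _ F => f F) k : ℕ) = f (Nat.rec F (fun _ F => f F) k) :=
    fun f k F => by
      induction k with
      | zero => rfl
      | succ k ih => exact congrArg f ih
  induction k with
  | zero => exact fun _ => rfl
  | succ k ih => exact fun F => (ih _).trans (key (fun F => Nat.add (Nat.land F LO) (Nat.land (Nat.shiftRight F r) HI)) k F)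

private theorem fShift (x y : ℕ) : Nat.shiftRight (Nat.add (Nat.shiftLeft x 64) (Nat.mod y 18446744073709551557)) 64 = x := by
  have h : y % 18446744073709551557 < 18446744073709551557 := Nat.mod_lt _ (by decide)
  show (x <<< 64 + y % 18446744073709551557) >>> 64 = x
  rw [Nat.shiftLeft_eq, Nat.shiftRight_eq_div_pow]
  omega

private noncomputable def fRun (p r m t nf GM FM LO HI HT : ℕ) (w : List ℕ) : ℕ → ℕ :=
  List.rec (fun P => Nat.shiftRight P 64) (fun g _ ih P => force (fStep p r m t nf GM FM LO HI HT P g) ih) w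

private theorem fRun_eq (p r m t nf GM FM LO HI HT : ℕ) (w : List ℕ) : ∀ P, fRun p r m t nf GM FM LO HI HT w P =
    runK p r m t nf GM FM LO HI HT w (Nat.shiftRight P 64) := by
  induction w with
  | nil => exact fun _ => rfl
  | cons g w ih =>
    intro P
    refine (ih (fStep p r m t nf GM FM LO HI HT P g)).trans (congrArg (runK p r m t nf GM FM LO HI HT w) ?_)
    refine (fShift _ _).trans ?_
    rw [← fFold]
    rfl

private noncomputable def fList (w : List ℕ) : (List ℕ → Bool) → Bool :=
  List.rec (fun k => k []) (fun g _ ih k => force g fun g' => ih fun l => k (g' :: l)) w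

private theorem fList_eq (w : List ℕ) : ∀ k, fList w k = k w := by
  induction w with
  | nil => exact fun _ => rfl
  | cons g w ih => exact fun k => ih fun l => k (g :: l)

/-- the start of the row number `i` -/
private noncomputable def fIni (R i : ℕ) : ℕ := Nat.add (Nat.shiftLeft R 64) (Nat.mod i 18446744073709551557)

/-- `checkEq` -/
private noncomputable def fEq (C : Cfg) (w₁ w₂ : List ℕ) (lo cnt : ℕ) : Bool :=
  bif Nat.ble (lo + cnt) C.n then fList w₁ fun w₁ => fList w₂ fun w₂ =>
    withC C fun s p r m t nf GM FM LO HI HT => force (unitRow C 1 lo) fun R =>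
      Nat.rec (motive := fun _ => ℕ → Bool) (fun _ => true) (fun i ih R =>
        bif Nat.beq (fRun p r m t nf GM FM LO HI HT w₁ (fIni R i)) (fRun p r m t nf GM FM LO HI HT w₂ (fIni R i)) then
          force (Nat.shiftRight R s) ih else false) cnt R
  else false

private theorem fEq_eq (C : Cfg) (w₁ w₂ : List ℕ) (lo cnt : ℕ) : checkEq C w₁ w₂ lo cnt = fEq C w₁ w₂ lo cnt := by
  have key : ∀ s p r m t nf GM FM LO HI HT cnt R, checkEqK s p r m t nf GM FM LO HI HT w₁ w₂ cnt R =
      Nat.rec (motive := fun _ => ℕ → Bool) (fun _ => true) (fun i ih R =>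
        bif Nat.beq (fRun p r m t nf GM FM LO HI HT w₁ (fIni R i)) (fRun p r m t nf GM FM LO HI HT w₂ (fIni R i)) then
          force (Nat.shiftRight R s) ih else false) cnt R := fun s p r m t nf GM FM LO HI HT cnt => by
    induction cnt with
    | zero => exact fun _ => rfl
    | succ i ih =>
      intro R
      show (bif Nat.beq (runK p r m t nf GM FM LO HI HT w₁ R) (runK p r m t nf GM FM LO HI HT w₂ R) then
        checkEqK s p r m t nf GM FM LO HI HT w₁ w₂ i (Nat.shiftRight R s) else false) =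
        bif Nat.beq (fRun p r m t nf GM FM LO HI HT w₁ (fIni R i)) (fRun p r m t nf GM FM LO HI HT w₂ (fIni R i)) then _
        else false
      rw [ih, fRun_eq, fRun_eq, fIni, fShift]
      rfl
  rw [fEq, fList_eq, fList_eq]
  exact congrArg (fun b => bif Nat.ble (lo + cnt) C.n then b else false) (key _ _ _ _ _ _ _ _ _ _ _ _ _)

end FastPackMat

section FastMat
open Cfsg.Agent.Lib.PackMat

/-- the packed matrix of a word (to be checked with `fEq`) -/
private noncomputable def fMat (C : Cfg) (w : List ℕ) : ℕ :=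
  (fun (k : List ℕ → ℕ) => List.rec (motive := fun _ => (List ℕ → ℕ) → ℕ) (fun k => k [])
    (fun g _ ih k => force g fun g' => ih fun l => k (g' :: l)) w k) fun w =>
  withC C fun s p r m t nf GM FM LO HI HT => force (rep (C.s * (C.n + 1)) C.n) fun I => force (unitRow C 1 0) fun R =>
    Nat.rec (motive := fun _ => ℕ → ℕ) (fun _ => 0) (fun i ih R => Nat.add (Nat.shiftRight (Nat.land
      (Nat.mul (fRun p r m t nf GM FM LO HI HT w (fIni R i)) I) GM) (Nat.mul s i)) (force (Nat.shiftRight R s) ih)) C.n R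

end FastMat

section FastDic
open Cfsg.Agent.Lib.PackMat Cfsg.Agent.SporadicB.ON45Data Cfsg.Agent.SporadicB.ON45Word

/-- the products of the lists of `D` as single matrices -/
private noncomputable def fDic (D : List (List ℕ)) : (List ℕ → Bool) → Bool :=
  List.rec (fun k => k []) (fun l _ ih k => force (fMat C45 l) fun X =>
    okG C45 X && (fEq C45 l [X] 0 45 && ih fun L => k (X :: L))) D

private theorem fDic_spec {xs : List Cfsg.Spor.ON} {D : List (List ℕ)} (h : List.Forall₂ LW xs D) :
    ∀ {k : List ℕ → Bool}, fDic D k = true → ∃ L, List.Forall₂ (fun x X => LW x [X]) xs L ∧ k L = true := by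
  induction h with
  | nil => exact fun h => ⟨[], List.Forall₂.nil, h⟩
  | @cons x l xs D hx _ ih =>
    intro k h
    have h1 : (okG C45 (fMat C45 l) && (fEq C45 l [fMat C45 l] 0 45 && fDic D fun L => k (fMat C45 l :: L))) = true := h
    generalize fMat C45 l = X at h1
    rw [Bool.and_eq_true, Bool.and_eq_true, ← fEq_eq] at h1
    obtain ⟨L, h2, h3⟩ := ih h1.2.2
    exact ⟨X :: L, List.Forall₂.cons (hx.change (m := [X]) (by rw [List.all_cons, h1.1]; rfl) h1.2.1) h2, h3⟩

/-- a word in the matrices of `L` -/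
private def mD (L u : List ℕ) : List ℕ := u.flatMap fun i => (L.drop i).take 1

private theorem lw_mD {xs : List Cfsg.Spor.ON} {L : List ℕ} (h : List.Forall₂ (fun x X => LW x [X]) xs L) (u : List ℕ) :
    LW (u.map fun i => xs.getD i 1).prod (mD L u) := by
  have key : ∀ i, LW (xs.getD i 1) ((L.drop i).take 1) := by
    induction h with
    | nil => exact fun i => by rw [List.drop_nil]; exact LW.one
    | cons hx _ ih => exact fun i => by cases i; exacts [hx, ih _]
  induction u with
  | nil => exact LW.one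
  | cons a u ih => exact (key a).mul ih

end FastDic

section FastEqM
open Cfsg.Agent.Lib.PackMat Cfsg.Agent.SporadicB.ON45Data Cfsg.Agent.ONType.TupMats
open Cfsg.Agent.ONType.TupRow (eqM)

private noncomputable def feqM (l m : List ℕ) : Bool :=
  fEq C45 l m 0 45 || fEq C45 (l ++ [m2]) m 0 45 || fEq C45 (l ++ [m4]) m 0 45

private theorem eqM_eq (l m : List ℕ) : eqM l m = feqM l m := by
  rw [feqM, ← fEq_eq, ← fEq_eq, ← fEq_eq]
  rfl

end FastEqM

private noncomputable def eqD (L u v : List ℕ) : Bool := feqM (mD L u) (mD L v)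

private noncomputable def neD (L u : List ℕ) : Bool := rowNe (mD L u) []

private noncomputable def wdD (hs : IsSimpleGroup ON) {xs : List ON} {L : List ℕ}
    (h : List.Forall₂ (fun x X => LW x [X]) xs L) : Wd ON where
  W := fun u => (u.map fun i => xs.getD i 1).prod
  nil := rfl
  app := fun u v => by rw [List.map_append, List.prod_append]
  eq := eqD L
  eq_sound := fun {u v} e => Cfsg.Agent.ONType.TupRow.eq_of_eqM hs (lw_mD h u) (lw_mD h v) ((eqM_eq _ _).trans e)
  ne := neD L
  ne_sound := fun {u} e => ne_of_rowNe (lw_mD h u) LW.one e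

private theorem two (x y : List ℕ) {k : List ℕ → Bool} (h : fDic [mats (ex x), mats (ex y)] k = true) :
    ∃ L, List.Forall₂ (fun x X => LW x [X]) [w (ex x), w (ex y)] L ∧ k L = true :=
  fDic_spec (List.Forall₂.cons (LW.word _) (List.Forall₂.cons (LW.word _) List.Forall₂.nil)) h

private theorem eleven (hs : IsSimpleGroup ON) : Orb 11 10 ON := by
  obtain ⟨L, hL, h⟩ := two
      [5, 0, 0, 3, 4, 5, 6, 1, 5, 4, 0, 3, 0, 5, 6, 7, 5, 3, 6, 5, 3, 4, 5, 3, 4, 5, 6, 4, 5, 4, 3, 2,
      6, 5, 4, 0, 0, 2, 5, 4, 5, 4, 6, 5, 4, 3, 4, 5, 2, 4, 3, 5, 7, 4, 5, 4, 6, 5, 3, 4, 5, 3, 4, 5, 6,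
      5, 4, 5, 6, 4, 5, 3, 4, 3, 2, 5, 4, 5, 6, 5, 4, 7]
      [0, 3, 4, 5, 3, 1, 6, 7, 4, 5, 3, 4, 5, 6, 0, 5, 6, 5, 4, 2, 3, 4, 5, 4, 5, 6, 4, 5, 4, 3, 5]
      (k := fun L => chkG0 (eqD L) (neD L) 11 1 10 [[0]] [[1]]
      ([[[2]]])
      ([[], [0], [0, 0], [0, 0, 0], [0, 0, 0, 0], [0, 0, 0, 0, 0], [0, 0, 0, 0, 0, 0], [0, 0, 0, 0, 0, 0,
      0], [0, 0, 0, 0, 0, 0, 0, 0], [0, 0, 0, 0, 0, 0, 0, 0, 0]])
      [1]) (by decide +kernel)
  exact (wdD hs hL).orb_gen (by norm_num) h

end E11

theorem ON_eleven (hs : IsSimpleGroup ON) : Orb 11 10 ON := E11.eleven hs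

end Cfsg.Agent.H921.Spor.ON
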